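import Groth.Agent.WeilExt.Extend
import Groth.Agent.NeronGen.Dense
import Groth.Agent.SpQS.GenPts
import Groth.Agent.CMFlat.Scheme
import Groth.Agent.SmLocalST.SmoothField
import Groth.Agent.S4440

/-!
Consequences of Weil's extension theorem over a Dedekind base and over a field.
-/

set_option autoImplicit false
set_option linter.style.haveILetI false
set_option backward.isDefEq.respectTransparency false
universe u

open CategoryTheory CategoryTheory.Limits AlgebraicGeometry TopologicalSpace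

noncomputable section

namespace Groth.Agent.WeilExt

variable {R : Type u} [CommRing R]

theorem regular_spec [IsRegularRing R] (s : Spec (CommRingCat.of R)) :
    IsRegularLocalRing ((Spec (CommRingCat.of R)).presheaf.stalk s) :=
  SmLocalST.isRegularLocalRing_stalk_spec (CommRingCat.of R) s

theorem dim_stalk_spec_le [IsDedekindDomain R] (s : Spec (CommRingCat.of R)) :
    ringKrullDim ((Spec (CommRingCat.of R)).presheaf.stalk s) ≤ 1 := by
  haveI : Ring.KrullDimLE 1 R := inferInstance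
  haveI : IsLocalization.AtPrime ((Spec.structureSheaf R).presheaf.stalk s) s.asIdeal := inferInstance
  have h : ringKrullDim ((Spec.structureSheaf R).presheaf.stalk s) = s.asIdeal.height :=
    IsLocalization.AtPrime.ringKrullDim_eq_height s.asIdeal _
  exact h.le.trans ((Ideal.height_le_ringKrullDim_of_ne_top s.isPrime.ne_top).trans (Ring.krullDimLE_iff.1 ‹_›))

variable {X G : Scheme.{u}} (pX : X ⟶ Spec (CommRingCat.of R)) [Smooth pX]

/-- The maximal points of the fibres of a smooth scheme over a Dedekind domain have codimension at most one. -/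
theorem exists_fibre_generic [IsDedekindDomain R] (x : X) :
    ∃ m : X, m ⤳ x ∧ pX m = pX x ∧ ringKrullDim (X.presheaf.stalk m) ≤ 1 := by
  haveI : IsLocallyNoetherian X := LocallyOfFiniteType.isLocallyNoetherian pX
  obtain ⟨g, hg, hmax⟩ := SpQS.exists_isMaxPt_specializes (pX.asFiber x)
  obtain ⟨m, rfl⟩ : ∃ m, m = pX.fiberι (pX x) g := ⟨_, rfl⟩
  have hm : pX (pX.fiberι (pX x) g) = pX x := (Scheme.Hom.range_fiberι pX _).le ⟨g, rfl⟩
  refine ⟨_, by simpa using hg.map (pX.fiberι (pX x)).continuous, hm, ?_⟩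
  have aux : ∀ (s : Spec (CommRingCat.of R)) (g : pX.fiber s) (t : X), pX.fiberι s g = t → pX t = s →
      SpQS.IsMaxPt g → SpQS.IsMaxPt (pX.asFiber t) := by
    rintro s g t ht rfl hmax
    rwa [← (pX.fiberι (pX t)).isEmbedding.injective (ht.trans (pX.fiberι_asFiber t).symm)]
  have hmax' : SpQS.IsMaxPt (pX.asFiber (pX.fiberι (pX x) g)) := aux _ g _ rfl hm hmax
  obtain ⟨t, ht⟩ : ∃ t, pX.fiberι (pX x) g = t := ⟨_, rfl⟩
  rw [ht] at hmax' ⊢
  letI := (pX.stalkMap t).hom.toAlgebra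
  haveI : Module.Flat ((Spec (CommRingCat.of R)).presheaf.stalk (pX t)) (X.presheaf.stalk t) :=
    Flat.stalkMap pX t
  haveI : IsLocalHom (algebraMap ((Spec (CommRingCat.of R)).presheaf.stalk (pX t)) (X.presheaf.stalk t)) :=
    inferInstanceAs (IsLocalHom (pX.stalkMap t).hom)
  obtain ⟨e⟩ := CMFlat.nonempty_fiberStalk_equiv pX t
  obtain ⟨c', e', hc, he, hce⟩ :=
    CMFlat.dims (R := (Spec (CommRingCat.of R)).presheaf.stalk (pX t)) (S := X.presheaf.stalk t)
  have he0 : e' = 0 := by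
    exact_mod_cast he.symm.trans ((ringKrullDim_eq_of_ringEquiv e).trans ((SpQS.stalk_dim_zero_iff _).2 hmax'))
  have hc1 : c' ≤ 1 := by exact_mod_cast hc.symm.trans_le (dim_stalk_spec_le (pX t))
  rw [hce]
  exact_mod_cast (show c' + e' ≤ 1 by omega)

variable (pG : G ⟶ Spec (CommRingCat.of R)) [GrpObj (Over.mk pG)]

theorem existsUnique_scheme [IsNoetherianRing R] [IsRegularRing R] [IsSeparated pG] [LocallyOfFiniteType pG]
    (U : X.Opens) (hdense : ∀ x : X, x ∈ closure ((U : Set X) ∩ {y | pX y = pX x}))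
    (hcodim : ∀ x : X, ringKrullDim (X.presheaf.stalk x) ≤ 1 → x ∈ U)
    (f : (U : Scheme.{u}) ⟶ G) (hf : f ≫ pG = U.ι ≫ pX) : ∃! g : X ⟶ G, g ≫ pG = pX ∧ U.ι ≫ g = f := by
  haveI : Smooth (Over.mk pX).hom := ‹Smooth pX›
  haveI : IsSeparated (Over.mk pG).hom := ‹IsSeparated pG›
  haveI : LocallyOfFiniteType (Over.mk pG).hom := ‹LocallyOfFiniteType pG›
  obtain ⟨g, hg, huniq⟩ := existsUnique_ext (S := Spec (CommRingCat.of R)) regular_spec (Z := Over.mk pX)
    (G := Over.mk pG) U hdense hcodim (Over.homMk f hf)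
  refine ⟨g.left, ⟨Over.w g, congrArg CommaMorphism.left hg⟩, fun g' hg' => ?_⟩
  exact congrArg CommaMorphism.left (huniq (Over.homMk g' hg'.1) (Over.OverMorphism.ext hg'.2))

/-- A morphism on a dense open of a smooth scheme over a Dedekind domain to a proper group scheme extends. -/
theorem existsUnique_proper [IsDedekindDomain R] [IsProper pG] (U : X.Opens) (hU : Dense (U : Set X))
    (f : (U : Scheme.{u}) ⟶ G) (hf : f ≫ pG = U.ι ≫ pX) : ∃! g : X ⟶ G, g ≫ pG = pX ∧ U.ι ≫ g = f := by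
  haveI : IsLocallyNoetherian X := LocallyOfFiniteType.isLocallyNoetherian pX
  haveI : IsReduced X := isReduced_of_regular (regular_of_smooth regular_spec pX)
  obtain ⟨U', hle, f', hf', hres, hU'⟩ :=
    S4440.result pG pX (fun y _ => regular_of_smooth regular_spec pX y) U hU f hf
  obtain ⟨g, ⟨hg₁, hg₂⟩, -⟩ := existsUnique_scheme pX pG U' (fun x => by
    obtain ⟨m, hmx, hm, hdim⟩ := exists_fibre_generic pX x
    exact closure_mono (Set.singleton_subset_iff.2 (show m ∈ (U' : Set X) ∩ {y | pX y = pX x} from ⟨hU' m hdim, hm⟩))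
      hmx.mem_closure) hU' f' hf'
  refine ⟨g, ⟨hg₁, by rw [← hres, ← hg₂, Scheme.homOfLE_ι_assoc]⟩, fun g' hg' => ?_⟩
  haveI : IsDominant U.ι := ⟨by rw [DenseRange, Scheme.Opens.range_ι]; exact hU⟩
  refine ext_of_isDominant_of_isSeparated pG (hg'.1.trans hg₁.symm) U.ι ?_
  rw [hg'.2, ← hres, ← hg₂, Scheme.homOfLE_ι_assoc]

variable [IsDedekindDomain R]

/-- A morphism of generic fibres spreads out to a dense open. -/
theorem exists_dense_spread [IsSeparated pG] [LocallyOfFiniteType pG]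
    (w : pullback pX (Neron.genPt R) ⟶ G) (hw : w ≫ pG = pullback.fst pX (Neron.genPt R) ≫ pX) :
    ∃ (U : X.Opens) (f : (U : Scheme.{u}) ⟶ G), Dense (U : Set X) ∧ f ≫ pG = U.ι ≫ pX ∧
      Dense (pullback.fst pX (Neron.genPt R) ⁻¹' (U : Set X)) ∧
      pullback.fst pX (Neron.genPt R) ∣_ U ≫ f = (pullback.fst pX (Neron.genPt R) ⁻¹ᵁ U).ι ≫ w := by
  let E := pullback.fst pX (Neron.genPt R)
  haveI : IsLocallyNoetherian X := LocallyOfFiniteType.isLocallyNoetherian pX
  haveI : IsReduced X := isReduced_of_regular (regular_of_smooth regular_spec pX)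
  haveI : Flat (Neron.genPt R) := by
    rw [HasRingHomProperty.Spec_iff (P := @Flat)]
    exact RingHom.flat_algebraMap_iff.mpr inferInstance
  haveI : IsPreimmersion (Neron.genPt R) := IsPreimmersion.of_isLocalization (nonZeroDivisors R)
  haveI : IsPreimmersion E := inferInstance
  have key : ∀ x : {x : X // SpQS.IsMaxPt x}, ∃ (W : X.Opens) (g : (W : Scheme.{u}) ⟶ G),
      x.1 ∈ W ∧ g ≫ pG = W.ι ≫ pX ∧ E ∣_ W ≫ g = (E ⁻¹ᵁ W).ι ≫ w := fun ⟨x, hx⟩ => by
    haveI : IsRegularLocalRing (X.presheaf.stalk x) := regular_of_smooth regular_spec pX x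
    haveI : IsDomain (X.presheaf.stalk x) := RegLoc.isDomain _
    have hfld : IsField (X.presheaf.stalk x) := by
      haveI : Ring.KrullDimLE 0 (X.presheaf.stalk x) :=
        Ring.krullDimLE_iff.2 (le_of_eq ((SpQS.stalk_dim_zero_iff x).2 hx))
      exact Ring.KrullDimLE.isField_of_isDomain
    obtain ⟨ψ, hψ⟩ : ∃ ψ, Spec.map ψ = X.fromSpecStalk x ≫ pX := ⟨_, Spec.map_preimage _⟩
    have hinj : Function.Injective ψ.hom := by
      rw [RingHom.injective_iff_ker_eq_bot]
      obtain ⟨y, hy, hy'⟩ := Flat.generalizingMap pX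
        ((PrimeSpectrum.le_iff_specializes (⊥ : PrimeSpectrum R) (pX x)).1 bot_le)
      rw [hx y hy] at hy'
      have h : PrimeSpectrum.comap ψ.hom (IsLocalRing.closedPoint (X.presheaf.stalk x)) = (⊥ : PrimeSpectrum R) := by
        refine ((congr($hψ (IsLocalRing.closedPoint (X.presheaf.stalk x)))).trans ?_).trans hy'
        rw [Scheme.Hom.comp_apply, Scheme.fromSpecStalk_closedPoint]
      have h' : (IsLocalRing.maximalIdeal (X.presheaf.stalk x)).comap ψ.hom = (⊥ : Ideal R) :=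
        congrArg PrimeSpectrum.asIdeal h
      rw [IsLocalRing.isField_iff_maximalIdeal_eq.mp hfld] at h'
      exact h'
    letI := hfld.toField
    let ψK : CommRingCat.of (FractionRing R) ⟶ X.presheaf.stalk x :=
      CommRingCat.ofHom (IsFractionRing.lift hinj)
    let l : Spec (X.presheaf.stalk x) ⟶ pullback pX (Neron.genPt R) :=
      pullback.lift (X.fromSpecStalk x) (Spec.map ψK) (by
        rw [← hψ, ← Spec.map_comp]
        congr 1
        exact CommRingCat.hom_ext (RingHom.ext fun r => (IsFractionRing.lift_algebraMap hinj r).symm))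
    obtain ⟨W₀, hxW₀, g₀, hg₀, hg₀q⟩ := spread_out_of_isGermInjective' pX pG (l ≫ w)
      (by rw [Category.assoc, hw, pullback.lift_fst_assoc])
    obtain ⟨W, hxW, hWW₀, hint, -⟩ := SectionExt.exists_integral_nhd x W₀ hxW₀
    refine ⟨W, X.homOfLE hWW₀ ≫ g₀, hxW, by rw [Category.assoc, hg₀q, Scheme.homOfLE_ι_assoc], ?_⟩
    let WK := E ⁻¹ᵁ W
    have hl : l ≫ E = X.fromSpecStalk x := pullback.lift_fst _ _ _
    let η : Spec (X.presheaf.stalk x) ⟶ WK.toScheme := IsOpenImmersion.lift WK.ι l (by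
      rw [Scheme.Opens.range_ι]
      rintro _ ⟨t, rfl⟩
      show E (l t) ∈ W
      rw [← Scheme.Hom.comp_apply, hl]
      have : X.fromSpecStalk x t ⤳ x := Scheme.range_fromSpecStalk.le ⟨t, rfl⟩
      rwa [hx _ this])
    have hη : η ≫ WK.ι = l := IsOpenImmersion.lift_fac _ _ _
    haveI : IsDominant η := ⟨fun p => by
      rw [(E ∣_ W).isEmbedding.isInducing.closure_eq_preimage_closure_image]
      show (E ∣_ W) p ∈ closure _
      have hgen : @Eq W.toScheme ⟨x, hxW⟩ (genericPoint W.toScheme) := W.ι.isOpenEmbedding.injective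
        (hx _ ((genericPoint_specializes (α := W.toScheme) ⟨x, hxW⟩).map W.ι.continuous)).symm
      refine closure_mono (Set.singleton_subset_iff.2 ?_) (genericPoint_specializes ((E ∣_ W) p)).mem_closure
      refine ⟨_, ⟨IsLocalRing.closedPoint _, rfl⟩, W.ι.isOpenEmbedding.injective ?_⟩
      rw [← hgen, ← Scheme.Hom.comp_apply, morphismRestrict_ι, ← Scheme.Hom.comp_apply]
      show (η ≫ WK.ι ≫ E) _ = x
      rw [reassoc_of% hη, hl, Scheme.fromSpecStalk_closedPoint]⟩
    haveI : Smooth (WK.ι ≫ pullback.snd pX (Neron.genPt R)) := inferInstance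
    haveI : IsReduced WK.toScheme := isReduced_of_regular (regular_of_smooth regular_spec
      (WK.ι ≫ pullback.snd pX (Neron.genPt R)))
    refine ext_of_isDominant_of_isSeparated pG ?_ η ?_
    · simp only [Category.assoc, hg₀q, hw, Scheme.homOfLE_ι_assoc, morphismRestrict_ι_assoc]
      rfl
    · have : η ≫ (E ∣_ W) ≫ X.homOfLE hWW₀ = W₀.fromSpecStalkOfMem x hxW₀ := by
        rw [← cancel_mono W₀.ι]
        simp only [Category.assoc, Scheme.homOfLE_ι, morphismRestrict_ι, Scheme.Opens.fromSpecStalkOfMem_ι]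
        rw [reassoc_of% hη, hl]
      rw [reassoc_of% this, ← hg₀, reassoc_of% hη]
  choose W g hxW hg hgw using key
  let U : X.Opens := ⨆ i, W i
  have hle : ∀ i, W i ≤ U := le_iSup W
  let 𝒰 : U.toScheme.OpenCover := Scheme.Cover.mkOfCovers {x : X // SpQS.IsMaxPt x} (fun i => (W i).toScheme)
    (fun i => X.homOfLE (hle i)) (fun p => by
      obtain ⟨i, hi⟩ := Opens.mem_iSup.1 p.2
      exact ⟨i, ⟨p.1, hi⟩, Subtype.ext (by simp)⟩) (fun _ => inferInstance)
  have hEdense : ∀ (V : (pullback pX (Neron.genPt R)).Opens) (_ : ∀ y, SpQS.IsMaxPt y → y ∈ V),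
      Dense (V : Set ↥(pullback pX (Neron.genPt R))) := fun V hV y => by
    obtain ⟨m, hm, hmax⟩ := SpQS.exists_isMaxPt_specializes y
    exact closure_mono (Set.singleton_subset_iff.2 (hV m hmax)) hm.mem_closure
  have hcompat : ∀ i j, pullback.fst (X.homOfLE (hle i)) (X.homOfLE (hle j)) ≫ g i =
      pullback.snd (X.homOfLE (hle i)) (X.homOfLE (hle j)) ≫ g j := fun i j => by
    let T := pullback (X.homOfLE (hle i)) (X.homOfLE (hle j))
    let a := pullback.fst (X.homOfLE (hle i)) (X.homOfLE (hle j))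
    let b := pullback.snd (X.homOfLE (hle i)) (X.homOfLE (hle j))
    have hab : a ≫ (W i).ι = b ≫ (W j).ι := by
      rw [← X.homOfLE_ι (hle i), ← X.homOfLE_ι (hle j), pullback.condition_assoc]
    let To : Over (Spec (CommRingCat.of R)) := Over.mk (a ≫ (W i).ι ≫ pX)
    let Go : Over (Spec (CommRingCat.of R)) := Over.mk pG
    haveI : Flat To.hom := inferInstanceAs (Flat (a ≫ (W i).ι ≫ pX))
    haveI : IsSeparated Go.hom := ‹IsSeparated pG›
    let u₁ : To ⟶ Go := Over.homMk (a ≫ g i) (by show (a ≫ g i) ≫ pG = _; rw [Category.assoc, hg]; rfl)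
    let u₂ : To ⟶ Go := Over.homMk (b ≫ g j) (by
      show (b ≫ g j) ≫ pG = a ≫ (W i).ι ≫ pX; rw [Category.assoc, hg, reassoc_of% hab])
    suffices u₁ = u₂ from congrArg CommaMorphism.left this
    refine NeronGen.ext R u₁ u₂ (Over.OverMorphism.ext (pullback.hom_ext ?_ (by simp)))
    simp only [Over.pullback_map_left, pullback.lift_fst]
    show pullback.fst To.hom (Neron.genPt R) ≫ a ≫ g i = pullback.fst To.hom (Neron.genPt R) ≫ b ≫ g j
    let e := pullback.lift (pullback.fst To.hom (Neron.genPt R) ≫ a ≫ (W i).ι) (pullback.snd _ _)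
      (by simpa [To] using pullback.condition (f := To.hom) (g := Neron.genPt R))
    have he : e ≫ E = pullback.fst To.hom (Neron.genPt R) ≫ a ≫ (W i).ι := pullback.lift_fst _ _ _
    obtain ⟨ei, hei⟩ : ∃ k, k ≫ (E ⁻¹ᵁ W i).ι = e := ⟨IsOpenImmersion.lift _ e (by
      rw [Scheme.Opens.range_ι]; rintro _ ⟨t, rfl⟩
      show E (e t) ∈ W i
      rw [← Scheme.Hom.comp_apply, he, Scheme.Hom.comp_apply, Scheme.Hom.comp_apply]
      exact Subtype.prop _), IsOpenImmersion.lift_fac _ _ _⟩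
    obtain ⟨ej, hej⟩ : ∃ k, k ≫ (E ⁻¹ᵁ W j).ι = e := ⟨IsOpenImmersion.lift _ e (by
      rw [Scheme.Opens.range_ι]; rintro _ ⟨t, rfl⟩
      show E (e t) ∈ W j
      rw [← Scheme.Hom.comp_apply, he, hab, Scheme.Hom.comp_apply, Scheme.Hom.comp_apply]
      exact Subtype.prop _), IsOpenImmersion.lift_fac _ _ _⟩
    have h1 : pullback.fst To.hom (Neron.genPt R) ≫ a = ei ≫ E ∣_ W i := by
      rw [← cancel_mono (W i).ι, Category.assoc, Category.assoc, morphismRestrict_ι, reassoc_of% hei, he]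
    have h2 : pullback.fst To.hom (Neron.genPt R) ≫ b = ej ≫ E ∣_ W j := by
      rw [← cancel_mono (W j).ι, Category.assoc, Category.assoc, morphismRestrict_ι, reassoc_of% hej, he, hab]
    rw [reassoc_of% h1, reassoc_of% h2, hgw, hgw, reassoc_of% hei, reassoc_of% hej]
  let f := 𝒰.glueMorphisms g hcompat
  have hfU : f ≫ pG = U.ι ≫ pX := 𝒰.hom_ext _ _ fun i => by
    rw [Scheme.Cover.ι_glueMorphisms_assoc]
    show g i ≫ pG = X.homOfLE (hle i) ≫ U.ι ≫ pX
    rw [hg, Scheme.homOfLE_ι_assoc]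
  have hmem : ∀ x : X, SpQS.IsMaxPt x → x ∈ U := fun x hx => hle ⟨x, hx⟩ (hxW ⟨x, hx⟩)
  refine ⟨U, f, fun x => ?_, hfU, ?_, ?_⟩
  · obtain ⟨m, hm, hmax⟩ := SpQS.exists_isMaxPt_specializes x
    exact closure_mono (Set.singleton_subset_iff.2 (hmem m hmax)) hm.mem_closure
  · refine hEdense (E ⁻¹ᵁ U) fun y hy => hmem _ fun z hz => ?_
    obtain ⟨y', hy', rfl⟩ := Flat.generalizingMap E hz
    exact congrArg E (hy y' hy')
  · let 𝒱 := (Scheme.Cover.mkOfCovers {x : X // SpQS.IsMaxPt x} (fun i => (E ⁻¹ᵁ W i).toScheme)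
      (fun i => (pullback pX (Neron.genPt R)).homOfLE ((fun _ h => hle i h) : E ⁻¹ᵁ W i ≤ E ⁻¹ᵁ U)) (fun p => by
        obtain ⟨i, hi⟩ := Opens.mem_iSup.1 (show E p.1 ∈ U from p.2)
        exact ⟨i, ⟨p.1, hi⟩, Subtype.ext (by simp)⟩) (fun _ => inferInstance) :
        (E ⁻¹ᵁ U).toScheme.OpenCover)
    refine 𝒱.hom_ext _ _ fun i => ?_
    have hiU : E ⁻¹ᵁ W i ≤ E ⁻¹ᵁ U := fun _ h => hle i h
    show (pullback pX (Neron.genPt R)).homOfLE hiU ≫ E ∣_ U ≫ f =
      (pullback pX (Neron.genPt R)).homOfLE hiU ≫ (E ⁻¹ᵁ U).ι ≫ w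
    have h : (pullback pX (Neron.genPt R)).homOfLE ((fun _ h => hle i h) : E ⁻¹ᵁ W i ≤ E ⁻¹ᵁ U) ≫ E ∣_ U =
        E ∣_ W i ≫ X.homOfLE (hle i) := by
      rw [← cancel_mono U.ι]
      simp only [Category.assoc, morphismRestrict_ι, Scheme.homOfLE_ι]
      rw [Scheme.homOfLE_ι_assoc]
    rw [reassoc_of% h, Scheme.homOfLE_ι_assoc]
    show E ∣_ W i ≫ 𝒰.f i ≫ f = _
    rw [Scheme.Cover.ι_glueMorphisms, hgw]

/-- The Néron mapping property of a proper group scheme over a Dedekind domain. -/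
theorem existsUnique_of_generic [IsProper pG] (w : pullback pX (Neron.genPt R) ⟶ G)
    (hw : w ≫ pG = pullback.fst pX (Neron.genPt R) ≫ pX) :
    ∃! g : X ⟶ G, g ≫ pG = pX ∧ pullback.fst pX (Neron.genPt R) ≫ g = w := by
  obtain ⟨U, f, hU, hf, hUK, hres⟩ := exists_dense_spread pX pG w hw
  obtain ⟨g, ⟨hg₁, hg₂⟩, -⟩ := existsUnique_proper pX pG U hU f hf
  let E := pullback.fst pX (Neron.genPt R)
  haveI : IsReduced (pullback pX (Neron.genPt R)) :=
    isReduced_of_regular (regular_of_smooth regular_spec (pullback.snd pX (Neron.genPt R)))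
  haveI : IsDominant (E ⁻¹ᵁ U).ι := ⟨by rw [DenseRange, Scheme.Opens.range_ι]; exact hUK⟩
  refine ⟨g, ⟨hg₁, ?_⟩, fun g' hg' => ?_⟩
  · refine ext_of_isDominant_of_isSeparated pG (by rw [Category.assoc, hg₁, hw]) (E ⁻¹ᵁ U).ι ?_
    rw [← morphismRestrict_ι_assoc, hg₂, hres]
  · haveI : IsSeparated (Over.mk pG).hom := inferInstanceAs (IsSeparated pG)
    haveI : Flat (Over.mk pX).hom := inferInstanceAs (Flat pX)
    have hE : E ≫ g = w := by
      refine ext_of_isDominant_of_isSeparated pG (by rw [Category.assoc, hg₁, hw]) (E ⁻¹ᵁ U).ι ?_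
      rw [← morphismRestrict_ι_assoc, hg₂, hres]
    refine congrArg CommaMorphism.left (NeronGen.ext R (X := Over.mk pX) (Y := Over.mk pG)
      (Over.homMk g' hg'.1) (Over.homMk g hg₁) (Over.OverMorphism.ext (pullback.hom_ext ?_ (by simp))))
    simp only [Over.pullback_map_left, pullback.lift_fst]
    exact congrArg (fun k => k) (hg'.2.trans hE.symm)

end Groth.Agent.WeilExt
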