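import Groth.Agent.WeilExt.Algebra
import Groth.Agent.UFDLib.Regular
import Groth.Agent.RegLoc.Order
import Groth.Agent.RatExt.Basic

/-!
Extending a morphism to a point of a regular scheme from its values at the codimension one points of a subscheme.
-/

set_option autoImplicit false
set_option linter.style.haveILetI false
set_option backward.isDefEq.respectTransparency false
universe u

open CategoryTheory Limits AlgebraicGeometry TopologicalSpace IsLocalRing

namespace Groth.Agent.WeilExt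

theorem dim_stalk_le_height {Z : Scheme.{u}} (z : Z) (q : PrimeSpectrum (Z.presheaf.stalk z)) {z' : Z}
    (hz' : Z.fromSpecStalk z q = z') :
    ringKrullDim (Z.presheaf.stalk z') ≤ q.asIdeal.height := by
  have hspec : z' ⤳ z := by
    have : z' ∈ Set.range (Z.fromSpecStalk z) := ⟨q, hz'⟩
    rwa [Scheme.range_fromSpecStalk] at this
  let g : PrimeSpectrum (Z.presheaf.stalk z') → PrimeSpectrum (Z.presheaf.stalk z) :=
    PrimeSpectrum.comap (Z.presheaf.stalkSpecializes hspec).hom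
  have hg : ∀ P, Z.fromSpecStalk z (g P) = Z.fromSpecStalk z' P := fun P => by
    rw [← Scheme.SpecMap_stalkSpecializes_fromSpecStalk hspec, Scheme.Hom.comp_apply]
    rfl
  have hinj : Function.Injective g := fun P P' h => by
    refine (Z.fromSpecStalk z').isEmbedding.injective ?_
    rw [← hg, ← hg, h]
  have hmono : StrictMono g := fun P P' h =>
    lt_of_le_of_ne (Ideal.comap_mono h.le) fun e => h.ne (hinj e)
  have hq : g (closedPoint _) = q := (Z.fromSpecStalk z).isEmbedding.injective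
    ((hg _).trans (Scheme.fromSpecStalk_closedPoint.trans hz'.symm))
  rw [← IsLocalRing.maximalIdeal_height_eq_ringKrullDim]
  refine WithBot.coe_le_coe.mpr ?_
  rw [PrimeSpectrum.height_eq_orderHeight q, show (maximalIdeal (Z.presheaf.stalk z')).height =
    Order.height (closedPoint (Z.presheaf.stalk z')) from PrimeSpectrum.height_eq_orderHeight (closedPoint _)]
  have := Order.height_le_height_apply_of_strictMono g hmono (closedPoint _)
  rw [hq] at this
  exact this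

variable {S : Scheme.{u}}

/-- A morphism on a dense open of a regular scheme extends to a point `i z` as soon as it maps the generizations
of `i z` of codimension at most one in `Z` into a fixed affine open of the target. -/
theorem exists_ext_nhd [IsAffine S] {P Z G : Scheme.{u}} [IsLocallyNoetherian P] [IsLocallyNoetherian Z]
    (q : P ⟶ S) (pG : G ⟶ S) [IsSeparated pG] [LocallyOfFiniteType pG] (i : Z ⟶ P) [IsPreimmersion i] (z : Z)
    (hreg : IsRegularLocalRing (P.presheaf.stalk (i z))) (V : P.Opens) (hV : Dense (V : Set P))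
    (φ : V.toScheme ⟶ G) (hφ : φ ≫ pG = V.ι ≫ q) (U₀ : G.Opens) (hU₀ : IsAffineOpen U₀)
    (hcodim : ∀ z', z' ⤳ z → ringKrullDim (Z.presheaf.stalk z') ≤ 1 → ∃ h : i z' ∈ V, φ ⟨i z', h⟩ ∈ U₀) :
    ∃ (N : P.Opens) (g : N.toScheme ⟶ G), i z ∈ N ∧ g ≫ pG = N.ι ≫ q ∧
      P.homOfLE (inf_le_left : V ⊓ N ≤ V) ≫ φ = P.homOfLE (inf_le_right : V ⊓ N ≤ N) ≫ g := by
  let w := i z
  let A := P.presheaf.stalk w
  let B := Z.presheaf.stalk z
  let K := FractionRing A
  haveI : IsRegularLocalRing A := hreg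
  haveI : IsDomain A := RegLoc.isDomain A
  haveI : UniqueFactorizationMonoid A := UFDLib.ufd_of_isRegularLocalRing A
  let π : A →+* B := (i.stalkMap z).hom
  let gen : Spec (CommRingCat.of K) ⟶ Spec A := Spec.map (CommRingCat.ofHom (algebraMap A K))
  let j : Spec A ⟶ P := P.fromSpecStalk w
  obtain ⟨ξ, hξV, hξ⟩ : ∃ (ξ : Spec (CommRingCat.of K) ⟶ V.toScheme), True ∧ ξ ≫ V.ι = gen ≫ j :=
    ⟨IsOpenImmersion.lift V.ι (gen ≫ j) (by
      rw [Scheme.Opens.range_ι]; exact SectionExt.range_genMap_subset w V hV), trivial,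
      IsOpenImmersion.lift_fac _ _ _⟩
  clear hξV
  let W : (Spec A).Opens := j ⁻¹ᵁ V
  let ψ : W.toScheme ⟶ G := j ∣_ V ≫ φ
  let O : (Spec A).Opens := W.ι ''ᵁ (ψ ⁻¹ᵁ U₀)
  -- the primes of codimension at most one of the subscheme lie in `O`
  have hO : ∀ Q : PrimeSpectrum B, Q.asIdeal.height ≤ 1 → PrimeSpectrum.comap π Q ∈ O := fun Q hQ => by
    obtain ⟨z', hz'⟩ : ∃ z', Z.fromSpecStalk z Q = z' := ⟨_, rfl⟩
    have hspec : z' ⤳ z := by
      have : z' ∈ Set.range (Z.fromSpecStalk z) := ⟨Q, hz'⟩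
      rwa [Scheme.range_fromSpecStalk] at this
    obtain ⟨h1, h2⟩ := hcodim z' hspec ((dim_stalk_le_height z Q hz').trans (by exact_mod_cast hQ))
    have hj : j (PrimeSpectrum.comap π Q) = i z' := by
      rw [← hz']
      exact congr($(Scheme.SpecMap_stalkMap_fromSpecStalk i (x := z)) Q)
    have hW : PrimeSpectrum.comap π Q ∈ W := show j _ ∈ V from hj ▸ h1
    refine ⟨⟨_, hW⟩, ?_, rfl⟩
    show ψ ⟨_, hW⟩ ∈ U₀
    rw [Scheme.Hom.comp_apply]
    convert h2 using 2
    apply V.ι.isOpenEmbedding.injective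
    rw [← Scheme.Hom.comp_apply, morphismRestrict_ι]
    exact hj
  have hle : O ≤ W := fun x ⟨y, _, hy⟩ => hy ▸ y.2
  let ψ₀ : O.toScheme ⟶ U₀.toScheme := IsOpenImmersion.lift U₀.ι ((Spec A).homOfLE hle ≫ ψ) (by
    rintro _ ⟨⟨x, y, hy, rfl⟩, rfl⟩
    rw [Scheme.Opens.range_ι, Scheme.Hom.comp_apply]
    have e : (Spec A).homOfLE hle ⟨W.ι y, ⟨y, hy, rfl⟩⟩ = y := by
      apply W.ι.isOpenEmbedding.injective
      rw [← Scheme.Hom.comp_apply, Scheme.homOfLE_ι]
      rfl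
    exact e.symm ▸ hy)
  obtain ⟨Q₀, hQ₀⟩ : ∃ Q : PrimeSpectrum B, Q.asIdeal.height ≤ 1 := by
    obtain ⟨I, hI⟩ := (⊥ : Ideal B).nonempty_minimalPrimes bot_ne_top
    haveI := hI.1.1
    refine ⟨⟨I, hI.1.1⟩, ?_⟩
    show I.height ≤ 1
    rw [Ideal.height_eq_zero_iff.mpr hI]
    exact zero_le
  have hgen0 : ∀ t, gen t = (⊥ : PrimeSpectrum A) := fun t => by
    haveI := SectionExt.subsingleton_spec K
    rw [Subsingleton.elim t (⊥ : PrimeSpectrum K)]
    refine PrimeSpectrum.ext ?_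
    exact (RingHom.injective_iff_ker_eq_bot _).mp (IsFractionRing.injective A K)
  have hgenO : ∀ O' : (Spec A).Opens, (O' : Set (Spec A)).Nonempty → Set.range gen ⊆ O' := by
    rintro O' ⟨x, hx⟩ _ ⟨t, rfl⟩
    refine ((PrimeSpectrum.le_iff_specializes (gen t : PrimeSpectrum A) x).mp ?_).mem_open O'.2 hx
    rw [hgen0]
    exact bot_le
  let γ : Spec (CommRingCat.of K) ⟶ O.toScheme := IsOpenImmersion.lift O.ι gen (by
    rw [Scheme.Opens.range_ι]; exact hgenO O ⟨_, hO Q₀ hQ₀⟩)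
  have hγ : γ ≫ O.ι = gen := IsOpenImmersion.lift_fac _ _ _
  obtain ⟨τ, hτ⟩ : ∃ τ, Spec.map τ = γ ≫ ψ₀ ≫ hU₀.isoSpec.hom := ⟨_, Spec.map_preimage _⟩
  have hγφ : γ ≫ ψ₀ ≫ U₀.ι = ξ ≫ φ := by
    rw [IsOpenImmersion.lift_fac]
    simp only [ψ, ← Category.assoc]
    congr 1
    rw [← cancel_mono V.ι, hξ, ← hγ]
    simp [morphismRestrict_ι]
    exact congrArg (γ ≫ ·) ((Spec A).homOfLE_ι_assoc hle j)
  have hrange : ∀ r, ∃ a : A, algebraMap A K a = τ r := fun r => by
    refine mem_range_of_codim_one π (i.stalkMap_surjective z) (τ r) fun Q hQp hQ => ?_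
    let c : Spec A := PrimeSpectrum.comap π ⟨Q, hQp⟩
    obtain ⟨s, hcs, hsO⟩ : ∃ s : A, c ∈ (PrimeSpectrum.basicOpen s : Set (PrimeSpectrum A)) ∧
        (PrimeSpectrum.basicOpen s : Set (PrimeSpectrum A)) ⊆ (O : Set (Spec A)) := by
      obtain ⟨_, ⟨s, rfl⟩, h1, h2⟩ :=
        PrimeSpectrum.isTopologicalBasis_basic_opens.exists_subset_of_mem_open (hO ⟨Q, hQp⟩ hQ) O.2
      exact ⟨s, h1, h2⟩
    let L := Localization.Away s
    haveI : IsLocalization.Away s L := inferInstance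
    have hs0 : (algebraMap A K s) ≠ 0 := fun h => by
      rw [← map_zero (algebraMap A K)] at h
      have := IsFractionRing.injective A K h
      exact hcs (this ▸ Ideal.zero_mem _)
    let l : L →+* K := IsLocalization.Away.lift s (g := algebraMap A K) hs0.isUnit
    have hl : l.comp (algebraMap A L) = algebraMap A K := IsLocalization.Away.lift_comp _ _
    let bs : Spec (CommRingCat.of L) ⟶ Spec A := Spec.map (CommRingCat.ofHom (algebraMap A L))
    haveI : IsOpenImmersion bs := IsOpenImmersion.of_isLocalization (R := (A : Type u)) (S := L) s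
    let e : Spec (CommRingCat.of L) ⟶ O.toScheme := IsOpenImmersion.lift O.ι bs (by
      rw [Scheme.Opens.range_ι]
      exact (PrimeSpectrum.localization_away_comap_range L s).subset.trans hsO)
    obtain ⟨ρ, hρ⟩ : ∃ ρ, Spec.map ρ = e ≫ ψ₀ ≫ hU₀.isoSpec.hom := ⟨_, Spec.map_preimage _⟩
    have hfac : Spec.map (CommRingCat.ofHom l) ≫ e = γ := by
      rw [← cancel_mono O.ι, Category.assoc, IsOpenImmersion.lift_fac, hγ, ← Spec.map_comp]
      exact congrArg (fun f => Spec.map (CommRingCat.ofHom f)) hl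
    have hτρ : τ = ρ ≫ CommRingCat.ofHom l := Spec.map_injective (by
      rw [Spec.map_comp, hρ, hτ, reassoc_of% hfac])
    obtain ⟨n, a, ha⟩ := IsLocalization.Away.surj s (ρ r)
    refine ⟨a, s ^ n, ?_, ?_⟩
    · rw [map_pow]
      exact fun h => hcs (hQp.mem_of_pow_mem n h)
    · have := congrArg l ha
      rw [map_mul, map_pow] at this
      change (l (ρ.hom r)) * (l.comp (algebraMap A L) s) ^ n = l.comp (algebraMap A L) a at this
      rw [hl] at this
      rw [hτρ, map_pow, mul_comm]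
      exact this
  choose σ₀ hσ₀ using hrange
  let σ : Γ(G, U₀) →+* A :=
    { toFun := σ₀
      map_one' := IsFractionRing.injective A K (by rw [hσ₀, map_one, map_one])
      map_mul' := fun a b => IsFractionRing.injective A K (by rw [hσ₀, map_mul, map_mul, hσ₀, hσ₀])
      map_zero' := IsFractionRing.injective A K (by rw [hσ₀, map_zero, map_zero])
      map_add' := fun a b => IsFractionRing.injective A K (by rw [hσ₀, map_add, map_add, hσ₀, hσ₀]) }
  let ℓ : Spec A ⟶ G := Spec.map (CommRingCat.ofHom σ) ≫ hU₀.isoSpec.inv ≫ U₀.ι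
  have hℓ : gen ≫ ℓ = ξ ≫ φ := by
    have : τ = CommRingCat.ofHom σ ≫ CommRingCat.ofHom (algebraMap A K) :=
      CommRingCat.hom_ext (RingHom.ext fun r => (hσ₀ r).symm)
    rw [← hγφ, ← cancel_epi (𝟙 (Spec (CommRingCat.of K)))]
    simp only [ℓ, gen, Category.id_comp, ← Spec.map_comp_assoc, ← this, hτ]
    simp
  have hdom : IsDominant gen := ⟨dense_iff_inter_open.mpr fun O' hO' hne =>
    ⟨gen (⊥ : PrimeSpectrum K), hgenO ⟨O', hO'⟩ hne ⟨_, rfl⟩, _, rfl⟩⟩
  have hℓq : ℓ ≫ pG = j ≫ q := by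
    refine ext_of_isDominant_of_isSeparated (terminal.from S) (terminal.hom_ext _ _) gen ?_
    rw [reassoc_of% hℓ, hφ, reassoc_of% hξ]
  obtain ⟨N₀, hwN₀, g, hg, hgq⟩ := spread_out_of_isGermInjective' q pG ℓ hℓq
  obtain ⟨N, hwN, hNN₀, hint, hgenN⟩ := SectionExt.exists_integral_nhd w N₀ hwN₀
  refine ⟨N, P.homOfLE hNN₀ ≫ g, hwN, by rw [Category.assoc, hgq, Scheme.homOfLE_ι_assoc], ?_⟩
  obtain ⟨p, hpN, hpV⟩ := hV.inter_open_nonempty N N.2 ⟨w, hwN⟩
  haveI : Nonempty (V ⊓ N : P.Opens).toScheme := ⟨⟨p, hpV, hpN⟩⟩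
  haveI : IsIntegral (V ⊓ N : P.Opens).toScheme :=
    isIntegral_of_isOpenImmersion (P.homOfLE (inf_le_right : V ⊓ N ≤ N))
  let η : Spec (CommRingCat.of K) ⟶ (V ⊓ N : P.Opens).toScheme := IsOpenImmersion.lift (V ⊓ N).ι (gen ≫ j) (by
    rw [Scheme.Opens.range_ι]; exact hgenN _ ⟨p, ⟨hpV, hpN⟩, hpN⟩)
  have hη : η ≫ (V ⊓ N).ι = gen ≫ j := IsOpenImmersion.lift_fac _ _ _
  haveI : IsDominant η := ⟨dense_iff_inter_open.mpr fun O' hO' hne => by
    obtain ⟨o, ho⟩ := hne
    let O'' : P.Opens := (V ⊓ N).ι ''ᵁ ⟨O', hO'⟩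
    obtain ⟨r, hr, hr'⟩ := hgenN O'' ⟨(V ⊓ N).ι o, ⟨o, ho, rfl⟩, o.2.2⟩ ⟨(⊥ : PrimeSpectrum K), rfl⟩
    refine ⟨r, hr, (⊥ : PrimeSpectrum K), (V ⊓ N).ι.isOpenEmbedding.injective ?_⟩
    rw [← Scheme.Hom.comp_apply, hη]
    exact hr'.symm⟩
  refine ext_of_isDominant_of_isSeparated pG ?_ η ?_
  · simp only [Category.assoc, hφ, hgq, Scheme.homOfLE_ι_assoc]
  · have e1 : η ≫ P.homOfLE (inf_le_left : V ⊓ N ≤ V) = ξ := by
      rw [← cancel_mono V.ι, Category.assoc, Scheme.homOfLE_ι, hη, hξ]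
    have e2 : η ≫ P.homOfLE (inf_le_right : V ⊓ N ≤ N) ≫ P.homOfLE hNN₀ = gen ≫ N₀.fromSpecStalkOfMem w hwN₀ := by
      rw [← cancel_mono N₀.ι]
      simp only [Category.assoc, Scheme.homOfLE_ι, Scheme.Opens.fromSpecStalkOfMem_ι, hη]
      rfl
    rw [reassoc_of% e1, reassoc_of% e2, ← hg, hℓ]

end Groth.Agent.WeilExt
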