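import Groth.Agent.WeilExt.Point
import Groth.Agent.ConsEngine.Fiber
import Groth.Agent.NeronBij.Basic
import Groth.Agent.S4991

/-!
Weil's extension theorem for morphisms from smooth schemes to separated group schemes.
-/

set_option autoImplicit false
set_option linter.style.haveILetI false
set_option backward.isDefEq.respectTransparency false
universe u

open CategoryTheory CategoryTheory.Limits AlgebraicGeometry TopologicalSpace MonoidalCategory CartesianMonoidalCategory MonObj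

noncomputable section

namespace Groth.Agent.WeilExt

variable {S : Scheme.{u}}

theorem regular_of_smooth [IsLocallyNoetherian S] (hS : ∀ s : S, IsRegularLocalRing (S.presheaf.stalk s))
    {X : Scheme.{u}} (p : X ⟶ S) [Smooth p] (x : X) : IsRegularLocalRing (X.presheaf.stalk x) :=
  (S4991.result p x ⟨⊤, trivial, inferInstance⟩).2 (hS _)

theorem isReduced_of_regular {X : Scheme.{u}} (hX : ∀ x : X, IsRegularLocalRing (X.presheaf.stalk x)) :
    IsReduced X := by
  haveI : ∀ x : X, _root_.IsReduced (X.presheaf.stalk x) := fun x => by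
    haveI := hX x
    haveI := RegLoc.isDomain (X.presheaf.stalk x)
    infer_instance
  exact isReduced_of_isReduced_stalk X

/-- An open subscheme of the source, over the base. -/
abbrev opn {X : Over S} (U : X.left.Opens) : Over S := Over.mk (U.ι ≫ X.hom)

/-- The inclusion of an open subscheme. -/
abbrev inc {X : Over S} (U : X.left.Opens) : opn U ⟶ X := Over.homMk U.ι

theorem exists_factor {X Y : Over S} (g : X ⟶ Y) (U : Y.left.Opens) (h : ∀ x, g.left x ∈ U) :
    ∃ l : X ⟶ opn U, l ≫ inc U = g := by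
  have hr : Set.range g.left ⊆ Set.range U.ι := by
    rw [Scheme.Opens.range_ι]; rintro _ ⟨x, rfl⟩; exact h x
  refine ⟨Over.homMk (IsOpenImmersion.lift U.ι g.left hr) ?_, Over.OverMorphism.ext (IsOpenImmersion.lift_fac _ _ _)⟩
  show IsOpenImmersion.lift U.ι g.left hr ≫ U.ι ≫ Y.hom = X.hom
  rw [IsOpenImmersion.lift_fac_assoc, Over.w]

section

variable [IsAffine S] [IsLocallyNoetherian S] (hS : ∀ s : S, IsRegularLocalRing (S.presheaf.stalk s))
  {Z G : Over S} [GrpObj G] [IsSeparated G.hom] [LocallyOfFiniteType G.hom] [Smooth Z.hom]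
  (U : Z.left.Opens) (hdense : ∀ x, x ∈ closure ((U : Set Z.left) ∩ {y | Z.hom y = Z.hom x}))
  (hcodim : ∀ x : Z.left, ringKrullDim (Z.left.presheaf.stalk x) ≤ 1 → x ∈ U) (f : opn U ⟶ G)

include hdense in
theorem dense_of_fibrewise : Dense (U : Set Z.left) := fun x => closure_mono Set.inter_subset_left (hdense x)

instance smooth_fst : Smooth (fst Z Z).left :=
  MorphismProperty.pullback_fst (P := @Smooth) _ _ ‹_›

instance smooth_snd : Smooth (snd Z Z).left :=
  MorphismProperty.pullback_snd (P := @Smooth) _ _ ‹_›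

/-- Points where both projections lie in the domain of definition. -/
abbrev dom2 : (Z ⊗ Z).left.Opens := (fst Z Z).left ⁻¹ᵁ U ⊓ (snd Z Z).left ⁻¹ᵁ U

include hS hcodim in
/-- Near every diagonal point the difference of the two compositions extends. -/
theorem exists_diag_nhd (hU : Dense (U : Set Z.left)) (z : Z.left) :
    ∃ (a₁ a₂ : opn (dom2 U) ⟶ opn U) (N : (Z ⊗ Z).left.Opens) (g : opn N ⟶ G),
      a₁ ≫ inc U = inc _ ≫ fst Z Z ∧ a₂ ≫ inc U = inc _ ≫ snd Z Z ∧ (lift (𝟙 Z) (𝟙 Z)).left z ∈ N ∧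
      ∀ (T : Over S) (m : T ⟶ opn (dom2 U)) (n : T ⟶ opn N), m ≫ inc _ = n ≫ inc _ →
        m ≫ ((a₁ ≫ f) * (a₂ ≫ f)⁻¹) = n ≫ g := by
  obtain ⟨a₁, ha₁⟩ := exists_factor (inc (dom2 U) ≫ fst Z Z) U fun x => by
    show (fst Z Z).left x.1 ∈ U; exact x.2.1
  obtain ⟨a₂, ha₂⟩ := exists_factor (inc (dom2 U) ≫ snd Z Z) U fun x => by
    show (snd Z Z).left x.1 ∈ U; exact x.2.2
  let φ := (a₁ ≫ f) * (a₂ ≫ f)⁻¹
  let Δ : Z ⟶ Z ⊗ Z := lift (𝟙 Z) (𝟙 Z)
  obtain ⟨d, hd⟩ := exists_factor (inc U ≫ Δ) (dom2 U) fun x => by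
    refine ⟨?_, ?_⟩
    · show ((inc U ≫ Δ) ≫ fst Z Z).left x ∈ U
      simp [Δ]
    · show ((inc U ≫ Δ) ≫ snd Z Z).left x ∈ U
      simp [Δ]
  have hd₁ : d ≫ a₁ = 𝟙 _ := by
    haveI : Mono (inc U) := Over.mono_of_mono_left _
    rw [← cancel_mono (inc U), Category.assoc, ha₁, reassoc_of% hd]; simp [Δ]
  have hd₂ : d ≫ a₂ = 𝟙 _ := by
    haveI : Mono (inc U) := Over.mono_of_mono_left _
    rw [← cancel_mono (inc U), Category.assoc, ha₂, reassoc_of% hd]; simp [Δ]
  have hdφ : d ≫ φ = toUnit _ ≫ η := by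
    rw [MonObj.comp_mul, GrpObj.comp_inv, reassoc_of% hd₁, reassoc_of% hd₂, mul_inv_cancel]
    rfl
  have hΔ : Δ.left = pullback.diagonal Z.hom := by
    apply pullback.hom_ext <;> simp [Δ]
  haveI : IsPreimmersion Δ.left := by rw [hΔ]; infer_instance
  haveI : Smooth (Z ⊗ Z).hom := by rw [Over.tensorObj_hom]; infer_instance
  haveI : IsLocallyNoetherian Z.left := LocallyOfFiniteType.isLocallyNoetherian Z.hom
  haveI : IsLocallyNoetherian (Z ⊗ Z).left := LocallyOfFiniteType.isLocallyNoetherian (Z ⊗ Z).hom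
  have hV : Dense (dom2 U : Set (Z ⊗ Z).left) :=
    (hU.preimage (fst Z Z).left.isOpenMap).inter_of_isOpen_left (hU.preimage (snd Z Z).left.isOpenMap)
      ((fst Z Z).left ⁻¹ᵁ U).2
  obtain ⟨U₀, hU₀, he, -⟩ := exists_isAffineOpen_mem_and_subset (X := G.left) (x := (η[G] : 𝟙_ _ ⟶ G).left (Z.hom z))
    (U := ⊤) trivial
  obtain ⟨N, g, hzN, hg, hagree⟩ := exists_ext_nhd (Z ⊗ Z).hom G.hom Δ.left z (regular_of_smooth hS (Z ⊗ Z).hom _)
    (dom2 U) hV φ.left (Over.w φ) U₀ hU₀ fun z' hz' hdim => by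
      have hm : z' ∈ U := hcodim z' hdim
      have hpt : (dom2 U).ι (d.left ⟨z', hm⟩) = Δ.left z' := congr($(congrArg CommaMorphism.left hd) ⟨z', hm⟩)
      refine ⟨hpt ▸ (d.left ⟨z', hm⟩).2, ?_⟩
      rw [show (⟨Δ.left z', hpt ▸ (d.left ⟨z', hm⟩).2⟩ : dom2 U) = d.left ⟨z', hm⟩ from Subtype.ext hpt.symm]
      show (d ≫ φ).left ⟨z', hm⟩ ∈ U₀
      rw [hdφ]
      exact ((hz'.map Z.hom.continuous).map (η[G] : 𝟙_ _ ⟶ G).left.continuous).mem_open U₀.2 he
  refine ⟨a₁, a₂, N, Over.homMk g hg, ha₁, ha₂, hzN, fun T m n hmn => ?_⟩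
  obtain ⟨l, hl⟩ := exists_factor (m ≫ inc _) (dom2 U ⊓ N) fun t => by
    refine ⟨(m.left t).2, ?_⟩
    rw [hmn]; exact (n.left t).2
  have h1 : l.left ≫ (Z ⊗ Z).left.homOfLE inf_le_left = m.left := by
    rw [← cancel_mono (dom2 U).ι, Category.assoc, Scheme.homOfLE_ι]
    exact congrArg CommaMorphism.left hl
  have h2 : l.left ≫ (Z ⊗ Z).left.homOfLE inf_le_right = n.left := by
    rw [← cancel_mono N.ι, Category.assoc, Scheme.homOfLE_ι]
    exact congrArg CommaMorphism.left (hl.trans hmn)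
  apply Over.OverMorphism.ext
  show m.left ≫ φ.left = n.left ≫ g
  rw [← h1, ← h2, Category.assoc, Category.assoc, hagree]

include hdense in
/-- In the fibre of the first projection over any point the second projection meets the domain of definition. -/
theorem exists_point_over (z : Z.left) (N : (Z ⊗ Z).left.Opens) (hN : (lift (𝟙 Z) (𝟙 Z)).left z ∈ N) :
    ∃ p ∈ N, (snd Z Z).left p ∈ U ∧ (fst Z Z).left p = z := by
  have hsq : IsPullback (snd Z Z).left (fst Z Z).left Z.hom Z.hom := (IsPullback.of_hasPullback Z.hom Z.hom).flip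
  have H := ConsEngine.isPullback_fiberBC hsq z
  haveI : UniversallyOpen (Spec.map (Z.hom.residueFieldMap z)) := inferInstance
  haveI : UniversallyOpen (ConsEngine.fiberBC hsq z) :=
    MorphismProperty.of_isPullback (P := @UniversallyOpen) H.flip ‹_›
  let w := (lift (𝟙 Z) (𝟙 Z)).left z
  have hw : (fst Z Z).left w = z := by
    show ((lift (𝟙 Z) (𝟙 Z)) ≫ fst Z Z).left z = z
    simp
  obtain ⟨w', hw'⟩ : w ∈ Set.range ((fst Z Z).left.fiberι z) := by rw [Scheme.Hom.range_fiberι]; exact hw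
  let O := (fst Z Z).left.fiberι z ⁻¹' (N : Set (Z ⊗ Z).left)
  have hO : IsOpen (ConsEngine.fiberBC hsq z '' O) :=
    (ConsEngine.fiberBC hsq z).isOpenMap _ (N.2.preimage (Scheme.Hom.continuous _))
  have hd : Dense (Z.hom.fiberι (Z.hom z) ⁻¹' (U : Set Z.left)) := fun y => by
    rw [(Z.hom.fiberι (Z.hom z)).isEmbedding.isInducing.closure_eq_preimage_closure_image, Set.mem_preimage,
      Set.image_preimage_eq_inter_range, Scheme.Hom.range_fiberι]
    have hy : Z.hom (Z.hom.fiberι (Z.hom z) y) = Z.hom z := by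
      have := Z.hom.range_fiberι (Z.hom z) ▸ Set.mem_range_self (f := Z.hom.fiberι (Z.hom z)) y
      exact this
    have h := hdense (Z.hom.fiberι (Z.hom z) y)
    rw [hy] at h
    exact h
  obtain ⟨_, ⟨p, hp, rfl⟩, hpU⟩ := hd.inter_open_nonempty _ hO ⟨_, w', show _ ∈ N from hw' ▸ hN, rfl⟩
  refine ⟨(fst Z Z).left.fiberι z p, hp, ?_, ?_⟩
  · have := congr($(ConsEngine.fiberBC_fiberι hsq z) p)
    rw [Scheme.Hom.comp_apply, Scheme.Hom.comp_apply] at this
    exact this ▸ hpU
  · exact (Scheme.Hom.range_fiberι _ z).le ⟨p, rfl⟩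

include hS hdense hcodim in
theorem exists_local (z : Z.left) :
    ∃ (W : Z.left.Opens) (g : opn W ⟶ G), z ∈ W ∧
      ∀ (T : Over S) (m : T ⟶ opn U) (n : T ⟶ opn W), IsReduced T.left → m ≫ inc U = n ≫ inc W → m ≫ f = n ≫ g := by
  have hU := dense_of_fibrewise U hdense
  obtain ⟨a₁, a₂, N, g, ha₁, ha₂, hzN, hg⟩ := exists_diag_nhd hS U hcodim f hU z
  let N' := N ⊓ (snd Z Z).left ⁻¹ᵁ U
  obtain ⟨jN, hjN⟩ := exists_factor (inc N') N fun x => x.2.1
  obtain ⟨b, hb⟩ := exists_factor (inc N' ≫ snd Z Z) U fun x => x.2.2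
  let g' : opn N' ⟶ G := (jN ≫ g) * (b ≫ f)
  -- over the preimage of `U` the new map is `f` on the first factor
  have key : ∀ (T : Over S) (m : T ⟶ opn N') (k : T ⟶ opn U), k ≫ inc U = m ≫ inc N' ≫ fst Z Z → m ≫ g' = k ≫ f := by
    intro T m k hk
    obtain ⟨v, hv⟩ := exists_factor (m ≫ inc N') (dom2 U) fun t => by
      refine ⟨?_, (m.left t).2.2⟩
      show (m ≫ inc N' ≫ fst Z Z).left t ∈ U
      rw [← hk]; exact (k.left t).2
    haveI : Mono (inc U) := Over.mono_of_mono_left _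
    have h1 : v ≫ a₁ = k := by rw [← cancel_mono (inc U), Category.assoc, ha₁, reassoc_of% hv, hk]
    have h2 : v ≫ a₂ = m ≫ b := by
      rw [← cancel_mono (inc U), Category.assoc, Category.assoc, ha₂, hb, reassoc_of% hv]
    have h := hg T v (m ≫ jN) (by rw [Category.assoc, hjN, hv])
    rw [MonObj.comp_mul, GrpObj.comp_inv, reassoc_of% h1, reassoc_of% h2] at h
    simp only [g', MonObj.comp_mul, ← Category.assoc] at h ⊢
    rw [← h, inv_mul_cancel_right]
  let q : (N' : Scheme.{u}) ⟶ Z.left := N'.ι ≫ (fst Z Z).left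
  haveI : Smooth q := inferInstance
  let W : Z.left.Opens := ⟨Set.range q, q.isOpenMap.isOpen_range⟩
  obtain ⟨q', hq'⟩ := exists_factor (inc N' ≫ fst Z Z) W fun x => ⟨x, rfl⟩
  have hq'l : q'.left ≫ W.ι = q := congrArg CommaMorphism.left hq'
  haveI : Smooth (q'.left ≫ W.ι) := by rw [hq'l]; infer_instance
  haveI : Smooth q'.left := NeronBij.smooth_of_comp q'.left W.ι
  haveI : Surjective q'.left := ⟨fun w => by
    obtain ⟨x, hx⟩ := w.2
    exact ⟨x, W.ι.isOpenEmbedding.injective ((congr($hq'l x)).trans hx)⟩⟩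
  haveI : Smooth (opn W).hom := inferInstanceAs (Smooth (W.ι ≫ Z.hom))
  have hdesc : ∀ {T : Scheme.{u}} (a c : T ⟶ (N' : Scheme.{u})), a ≫ q'.left = c ≫ q'.left →
      a ≫ g'.left = c ≫ g'.left := by
    suffices h : pullback.fst q'.left q'.left ≫ g'.left = pullback.snd q'.left q'.left ≫ g'.left by
      intro T a c e
      rw [← pullback.lift_fst a c e, Category.assoc, h, pullback.lift_snd_assoc]
    let T := pullback q'.left q'.left
    let π : T ⟶ Z.left := pullback.fst q'.left q'.left ≫ q'.left ≫ W.ι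
    haveI : Smooth (pullback.fst q'.left q'.left) := MorphismProperty.pullback_fst (P := @Smooth) _ _ ‹_›
    haveI : Smooth π := inferInstance
    haveI : IsLocallyNoetherian Z.left := LocallyOfFiniteType.isLocallyNoetherian Z.hom
    haveI : IsReduced T := isReduced_of_regular (regular_of_smooth hS (π ≫ Z.hom))
    let D : T.Opens := π ⁻¹ᵁ U
    haveI : IsDominant D.ι := ⟨by
      rw [DenseRange, Scheme.Opens.range_ι]
      exact hU.preimage π.isOpenMap⟩
    refine ext_of_isDominant_of_isSeparated G.hom ?_ D.ι ?_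
    · rw [Category.assoc, Category.assoc, Over.w g', ← Over.w q', pullback.condition_assoc]
    · let To : Over S := Over.mk (D.ι ≫ π ≫ Z.hom)
      let k : To ⟶ opn U := Over.homMk (π ∣_ U) (by
        show π ∣_ U ≫ U.ι ≫ Z.hom = _
        rw [morphismRestrict_ι_assoc]; rfl)
      let m₁ : To ⟶ opn N' := Over.homMk (D.ι ≫ pullback.fst q'.left q'.left) (by
        show _ ≫ (opn N').hom = D.ι ≫ π ≫ Z.hom
        rw [← Over.w q']; simp [π])
      let m₂ : To ⟶ opn N' := Over.homMk (D.ι ≫ pullback.snd q'.left q'.left) (by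
        show _ ≫ (opn N').hom = D.ι ≫ π ≫ Z.hom
        rw [← Over.w q', Category.assoc, ← pullback.condition_assoc]; simp [π])
      have e₁ : k ≫ inc U = m₁ ≫ inc N' ≫ fst Z Z := Over.OverMorphism.ext (by
        show π ∣_ U ≫ U.ι = (D.ι ≫ pullback.fst q'.left q'.left) ≫ q
        rw [morphismRestrict_ι, ← hq'l, Category.assoc])
      have e₂ : k ≫ inc U = m₂ ≫ inc N' ≫ fst Z Z := Over.OverMorphism.ext (by
        show π ∣_ U ≫ U.ι = (D.ι ≫ pullback.snd q'.left q'.left) ≫ q
        rw [morphismRestrict_ι, ← hq'l, Category.assoc, ← pullback.condition_assoc])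
      have := congrArg CommaMorphism.left ((key To m₁ k e₁).trans (key To m₂ k e₂).symm)
      simpa [m₁, m₂] using this
  let gW := EffectiveEpi.desc q'.left g'.left hdesc
  have hgW : q'.left ≫ gW = g'.left := EffectiveEpi.fac _ _ _
  have hgWS : gW ≫ G.hom = (opn W).hom := by
    rw [← cancel_epi q'.left, reassoc_of% hgW, Over.w g', Over.w q']
  refine ⟨W, Over.homMk gW hgWS, ?_, fun T m n hT hmn => ?_⟩
  · obtain ⟨p, hpN, hpU, hpz⟩ := exists_point_over U hdense z N hzN
    exact ⟨⟨p, hpN, hpU⟩, hpz⟩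
  · let P := pullback n.left q'.left
    haveI : Surjective (pullback.fst n.left q'.left) := MorphismProperty.pullback_fst _ _ ‹_›
    apply Over.OverMorphism.ext
    refine ext_of_isDominant_of_isSeparated G.hom ?_ (pullback.fst n.left q'.left) ?_
    · rw [Over.w, Over.w]
    · let Po : Over S := Over.mk (pullback.fst n.left q'.left ≫ T.hom)
      let pn : Po ⟶ T := Over.homMk (pullback.fst n.left q'.left) rfl
      let pm : Po ⟶ opn N' := Over.homMk (pullback.snd n.left q'.left) (by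
        show _ ≫ (opn N').hom = _ ≫ T.hom
        rw [← Over.w q', ← pullback.condition_assoc, Over.w n])
      have e : (pn ≫ m) ≫ inc U = pm ≫ inc N' ≫ fst Z Z := by
        rw [← hq', Category.assoc, hmn]
        apply Over.OverMorphism.ext
        simp [pn, pm, pullback.condition_assoc]
      have h := congrArg CommaMorphism.left (key Po pm (pn ≫ m) e)
      simp only [Over.comp_left, Over.homMk_left, pn, pm] at h ⊢
      rw [← Category.assoc, ← h, pullback.condition_assoc, hgW]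

include hS hdense hcodim in
/-- Weil's extension theorem. -/
theorem existsUnique_ext : ∃! g : Z ⟶ G, inc U ≫ g = f := by
  have hU := dense_of_fibrewise U hdense
  haveI : IsLocallyNoetherian Z.left := LocallyOfFiniteType.isLocallyNoetherian Z.hom
  haveI : IsReduced Z.left := isReduced_of_regular (regular_of_smooth hS Z.hom)
  have key : ∀ z : Z.left, ∃ (W : Z.left.Opens) (hUW : U ≤ W) (g : W.toScheme ⟶ G.left),
      z ∈ W ∧ g ≫ G.hom = W.ι ≫ Z.hom ∧ Z.left.homOfLE hUW ≫ g = f.left := fun z => by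
    obtain ⟨W, g, hzW, hg⟩ := exists_local hS U hdense hcodim f z
    have e : Z.left.homOfLE (inf_le_left : U ⊓ W ≤ U) ≫ f.left = Z.left.homOfLE inf_le_right ≫ g.left := by
      let To : Over S := opn (U ⊓ W)
      exact congrArg CommaMorphism.left (hg To (Over.homMk (Z.left.homOfLE inf_le_left) (by simp [To]))
        (Over.homMk (Z.left.homOfLE inf_le_right) (by simp [To])) (inferInstanceAs (IsReduced (U ⊓ W : Z.left.Opens).toScheme))
        (Over.OverMorphism.ext (by simp [To])))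
    obtain ⟨c, hc₁, hc₂⟩ := SectionExt.exists_glue_two U W f.left g.left e
    refine ⟨U ⊔ W, le_sup_left, c, (le_sup_right : W ≤ U ⊔ W) hzW, SectionExt.hom_ext_two ?_ ?_, hc₁⟩
    · rw [reassoc_of% hc₁, Scheme.homOfLE_ι_assoc, Over.w f]; rfl
    · rw [reassoc_of% hc₂, Scheme.homOfLE_ι_assoc, Over.w g]; rfl
  choose W hUW g hzW hg hres using key
  obtain ⟨U', hUU', h', h1, h2, h3⟩ := RatExt.exists_glue_family G.hom Z.hom U hU f.left (Over.w f) W hUW g hg hres
  have htop : ∀ z, z ∈ U' := fun z => h3 z (hzW z)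
  haveI : IsIso U'.ι := by
    haveI : Surjective U'.ι := ⟨fun z => ⟨⟨z, htop z⟩, rfl⟩⟩
    exact IsOpenImmersion.isIso _
  refine ⟨Over.homMk (inv U'.ι ≫ h') (by rw [Category.assoc, h1, IsIso.inv_hom_id_assoc]), ?_, fun g₂ hg₂ => ?_⟩
  · apply Over.OverMorphism.ext
    show U.ι ≫ inv U'.ι ≫ h' = f.left
    rw [← h2, ← Scheme.homOfLE_ι_assoc _ hUU', IsIso.hom_inv_id_assoc]
  · apply Over.OverMorphism.ext
    haveI : IsDominant U.ι := ⟨by rw [DenseRange, Scheme.Opens.range_ι]; exact hU⟩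
    refine ext_of_isDominant_of_isSeparated G.hom ?_ U.ι ?_
    · rw [Over.w, Over.w]
    · show U.ι ≫ g₂.left = U.ι ≫ inv U'.ι ≫ h'
      have e : U.ι ≫ inv U'.ι ≫ h' = f.left := by
        rw [← Scheme.homOfLE_ι_assoc _ hUU', IsIso.hom_inv_id_assoc, h2]
      rw [e, ← hg₂]
      rfl

end

end Groth.Agent.WeilExt
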