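import Groth.Agent.WeilExt.Dense
import Groth.Agent.QuotShLib.Fppf
import Mathlib.AlgebraicGeometry.Sites.Fpqc

/-!
# Extension of a morphism multiplicative on a relatively dense open to a homomorphism
-/

set_option autoImplicit false
set_option linter.style.haveILetI false
set_option backward.isDefEq.respectTransparency false
set_option backward.isDefEq.respectTransparency.types false

universe u

open CategoryTheory CategoryTheory.Limits AlgebraicGeometry MonoidalCategory CartesianMonoidalCategory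
  SemiCartesianMonoidalCategory MonObj GrpObj

namespace Groth.Agent.WeilExt

variable {S : Scheme.{u}} {G H : Over S} [GrpObj G] [GrpObj H]

/-- An open of an object over `S`. -/
abbrev opn {X : Over S} (O : X.left.Opens) : Over S := Over.mk (O.ι ≫ X.hom)

/-- The inclusion of an open over `S`. -/
abbrev incl {X : Over S} (O : X.left.Opens) : opn O ⟶ X := Over.homMk O.ι rfl

/-- A point landing in an open factors through it. -/
theorem exists_lift_opn {X Y : Over S} {O : X.left.Opens} (j : opn O ⟶ X) (hj : j.left = O.ι)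
    (a : Y ⟶ X) (ha : ∀ y, a.left y ∈ O) : ∃ a' : Y ⟶ opn O, a' ≫ j = a := by
  have hr : Set.range a.left ⊆ Set.range O.ι := by
    rintro _ ⟨y, rfl⟩
    rw [Scheme.Opens.range_ι]
    exact ha y
  refine ⟨Over.homMk (IsOpenImmersion.lift O.ι a.left hr) ?_, Over.OverMorphism.ext ?_⟩
  · change IsOpenImmersion.lift O.ι a.left hr ≫ O.ι ≫ X.hom = Y.hom
    rw [IsOpenImmersion.lift_fac_assoc, Over.w]
  · rw [Over.comp_left, hj]
    exact IsOpenImmersion.lift_fac _ _ _

theorem mem_of_lift {X Y : Over S} {O : X.left.Opens} (j : opn O ⟶ X) (hj : j.left = O.ι)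
    (a : Y ⟶ opn O) (y : Y.left) : (a ≫ j).left y ∈ O := by
  rw [Over.comp_left, hj, Scheme.Hom.comp_apply]
  exact (a.left y).2

variable {U : G.left.Opens} (jU : opn U ⟶ G) (hjU : jU.left = U.ι) (fbar : opn U ⟶ H)

/-- Multiplicativity of `fbar` at all pairs with product in `U`, from that on a dense open of pairs. -/
theorem mul_of_mul_on_dense (V : (G ⊗ G).left.Opens) (hV : UDense (G ⊗ G) V)
    (hjU : jU.left = U.ι)
    (hmul : ∀ (X : Over S) (a b : X ⟶ opn U),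
      Set.range (lift (a ≫ jU) (b ≫ jU)).left.base ⊆ (V : Set ↥(G ⊗ G).left) →
      ∃ c : X ⟶ opn U, c ≫ jU = (a ≫ jU) * (b ≫ jU) ∧ c ≫ fbar = (a ≫ fbar) * (b ≫ fbar))
    {X : Over S} (a b c : X ⟶ opn U) (h : c ≫ jU = (a ≫ jU) * (b ≫ jU)) :
    c ≫ fbar = (a ≫ fbar) * (b ≫ fbar) := by
  have : Mono jU := (Over.forget S).mono_of_mono_map (show Mono jU.left by rw [hjU]; infer_instance)
  let Ω : (G ⊗ G).left.Opens :=
    (fst G G).left ⁻¹ᵁ U ⊓ (snd G G).left ⁻¹ᵁ U ⊓ μ[G].left ⁻¹ᵁ U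
  obtain ⟨a₀, ha₀⟩ := exists_lift_opn jU hjU (incl Ω ≫ fst G G) fun y => y.2.1.1
  obtain ⟨b₀, hb₀⟩ := exists_lift_opn jU hjU (incl Ω ≫ snd G G) fun y => y.2.1.2
  obtain ⟨c₀, hc₀⟩ := exists_lift_opn jU hjU (incl Ω ≫ μ[G]) fun y => y.2.2
  have key : c₀ ≫ fbar = (a₀ ≫ fbar) * (b₀ ≫ fbar) := by
    haveI : IsOpenImmersion (incl Ω).left := inferInstanceAs (IsOpenImmersion Ω.ι)
    refine ext_of_udense (hV.preimage (incl Ω)) ?_
    let W := (incl Ω).left ⁻¹ᵁ V
    have hr : Set.range (lift ((incl W ≫ a₀) ≫ jU) ((incl W ≫ b₀) ≫ jU)).left.base ⊆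
        (V : Set ↥(G ⊗ G).left) := by
      rw [Category.assoc, Category.assoc, ha₀, hb₀, ← comp_lift, ← comp_lift, lift_fst_snd,
        Category.comp_id]
      rintro _ ⟨y, rfl⟩
      exact y.2
    obtain ⟨c', hc', hc''⟩ := hmul _ _ _ hr
    have e : incl W ≫ c₀ = c' := by
      rw [← cancel_mono jU, Category.assoc, hc₀, hc', Category.assoc, Category.assoc, ha₀, hb₀,
        Hom.mul_def, ← comp_lift, ← comp_lift, lift_fst_snd, Category.comp_id, Category.assoc]
    rw [← e] at hc''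
    have h2 : incl W ≫ (c₀ ≫ fbar) = incl W ≫ ((a₀ ≫ fbar) * (b₀ ≫ fbar)) := by
      rw [MonObj.comp_mul, ← Category.assoc, ← Category.assoc, ← Category.assoc, hc'']
    exact congrArg CommaMorphism.left h2
  obtain ⟨d, hd⟩ := exists_lift_opn (incl Ω) rfl (lift (a ≫ jU) (b ≫ jU)) fun y => by
    refine ⟨⟨?_, ?_⟩, ?_⟩
    · change (fst G G).left ((lift (a ≫ jU) (b ≫ jU)).left y) ∈ U
      rw [← Scheme.Hom.comp_apply, ← Over.comp_left, lift_fst]
      exact mem_of_lift jU hjU a y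
    · change (snd G G).left ((lift (a ≫ jU) (b ≫ jU)).left y) ∈ U
      rw [← Scheme.Hom.comp_apply, ← Over.comp_left, lift_snd]
      exact mem_of_lift jU hjU b y
    · change μ[G].left ((lift (a ≫ jU) (b ≫ jU)).left y) ∈ U
      rw [← Scheme.Hom.comp_apply, ← Over.comp_left, ← Hom.mul_def, ← h]
      exact mem_of_lift jU hjU c y
  have e1 : d ≫ a₀ = a := by
    rw [← cancel_mono jU, Category.assoc, ha₀, reassoc_of% hd, lift_fst]
  have e2 : d ≫ b₀ = b := by
    rw [← cancel_mono jU, Category.assoc, hb₀, reassoc_of% hd, lift_snd]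
  have e3 : d ≫ c₀ = c := by
    rw [← cancel_mono jU, Category.assoc, hc₀, reassoc_of% hd, h, Hom.mul_def]
  rw [← e1, ← e2, ← e3, Category.assoc, Category.assoc, Category.assoc, key, MonObj.comp_mul]

/-- The automorphism `(x, (y, w)) ↦ (w⁻¹ x, (y, w))`. -/
noncomputable def divAut (G : Over S) [GrpObj G] : G ⊗ (G ⊗ G) ≅ G ⊗ (G ⊗ G) where
  hom := lift ((snd _ _ ≫ snd G G)⁻¹ * fst _ _) (snd _ _)
  inv := lift ((snd _ _ ≫ snd G G) * fst _ _) (snd _ _)
  hom_inv_id := by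
    apply CartesianMonoidalCategory.hom_ext
    · simp [MonObj.comp_mul]
    · simp
  inv_hom_id := by
    apply CartesianMonoidalCategory.hom_ext
    · simp [MonObj.comp_mul, GrpObj.comp_inv]
    · simp

/-- Two factorisations of the same point give the same value. -/
theorem factor_indep (hU : UDense G U) (hjU : jU.left = U.ι)
    (hΩ : ∀ {X : Over S} (a b c : X ⟶ opn U), c ≫ jU = (a ≫ jU) * (b ≫ jU) →
      c ≫ fbar = (a ≫ fbar) * (b ≫ fbar))
    {X : Over S} (x y x' y' : X ⟶ opn U) (h : (x' ≫ jU) * (y' ≫ jU) = (x ≫ jU) * (y ≫ jU)) :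
    (x' ≫ fbar) * (y' ≫ fbar) = (x ≫ fbar) * (y ≫ fbar) := by
  have : Mono jU := (Over.forget S).mono_of_mono_map (show Mono jU.left by rw [hjU]; infer_instance)
  let p₁ : G ⊗ (G ⊗ G) ⟶ G := fst _ _
  let p₂ : G ⊗ (G ⊗ G) ⟶ G := snd _ _ ≫ fst G G
  let p₃ : G ⊗ (G ⊗ G) ⟶ G := snd _ _ ≫ snd G G
  let p₄ : G ⊗ (G ⊗ G) ⟶ G := p₃⁻¹ * (p₁ * p₂)
  let O : (G ⊗ (G ⊗ G)).left.Opens :=
    p₁.left ⁻¹ᵁ U ⊓ p₂.left ⁻¹ᵁ U ⊓ p₃.left ⁻¹ᵁ U ⊓ p₄.left ⁻¹ᵁ U
  obtain ⟨x₀, hx₀⟩ := exists_lift_opn jU hjU (incl O ≫ p₁) fun q => q.2.1.1.1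
  obtain ⟨y₀, hy₀⟩ := exists_lift_opn jU hjU (incl O ≫ p₂) fun q => q.2.1.1.2
  obtain ⟨x₁, hx₁⟩ := exists_lift_opn jU hjU (incl O ≫ p₃) fun q => q.2.1.2
  obtain ⟨y₁, hy₁⟩ := exists_lift_opn jU hjU (incl O ≫ p₄) fun q => q.2.2
  have key : (x₁ ≫ fbar) * (y₁ ≫ fbar) = (x₀ ≫ fbar) * (y₀ ≫ fbar) := by
    haveI : IsOpenImmersion (incl O).left := inferInstanceAs (IsOpenImmersion O.ι)
    haveI : IsOpenImmersion (divAut G).hom.left := by
      have : IsIso (divAut G).hom.left := inferInstanceAs (IsIso ((Over.forget S).map (divAut G).hom))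
      infer_instance
    refine ext_of_udense (((UDense.fst G (G ⊗ G) hU).preimage (divAut G).hom).preimage (incl O)) ?_
    let D := (incl O).left ⁻¹ᵁ ((divAut G).hom.left ⁻¹ᵁ ((fst G (G ⊗ G)).left ⁻¹ᵁ U))
    obtain ⟨z, hz⟩ := exists_lift_opn jU hjU (incl D ≫ incl O ≫ (divAut G).hom ≫ fst G (G ⊗ G))
      fun q => q.2
    have hz' : z ≫ jU = (incl D ≫ x₁ ≫ jU)⁻¹ * (incl D ≫ x₀ ≫ jU) := by
      rw [hz, hx₁, hx₀]
      simp only [divAut, lift_fst, MonObj.comp_mul, GrpObj.comp_inv]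
      rfl
    have h1 := hΩ (incl D ≫ x₁) z (incl D ≫ x₀) (by
      rw [hz', Category.assoc, Category.assoc, mul_inv_cancel_left])
    have h2 := hΩ z (incl D ≫ y₀) (incl D ≫ y₁) (by
      rw [hz', Category.assoc, Category.assoc, hy₁, hy₀, hx₁, hx₀]
      simp only [p₄, MonObj.comp_mul, GrpObj.comp_inv, _root_.mul_assoc])
    have h3 : incl D ≫ ((x₁ ≫ fbar) * (y₁ ≫ fbar)) = incl D ≫ ((x₀ ≫ fbar) * (y₀ ≫ fbar)) := by
      rw [MonObj.comp_mul, MonObj.comp_mul, ← Category.assoc, ← Category.assoc, ← Category.assoc,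
        ← Category.assoc, h1, h2, _root_.mul_assoc]
    exact congrArg CommaMorphism.left h3
  obtain ⟨d, hd⟩ := exists_lift_opn (incl O) rfl
      (lift (x ≫ jU) (lift (y ≫ jU) (x' ≫ jU))) fun q => by
    have hp : ∀ (p : G ⊗ (G ⊗ G) ⟶ G) (a : X ⟶ opn U),
        lift (x ≫ jU) (lift (y ≫ jU) (x' ≫ jU)) ≫ p = a ≫ jU →
        p.left ((lift (x ≫ jU) (lift (y ≫ jU) (x' ≫ jU))).left q) ∈ U := fun p a e => by
      rw [← Scheme.Hom.comp_apply, ← Over.comp_left, e]
      exact mem_of_lift jU hjU a q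
    refine ⟨⟨⟨hp p₁ x ?_, hp p₂ y ?_⟩, hp p₃ x' ?_⟩, hp p₄ y' ?_⟩
    · simp [p₁]
    · simp [p₂]
    · simp [p₃]
    · simp only [p₄, p₁, p₂, p₃, MonObj.comp_mul, GrpObj.comp_inv, lift_fst, lift_snd_assoc, lift_snd]
      rw [← h, inv_mul_cancel_left]
  have e1 : d ≫ x₀ = x := by rw [← cancel_mono jU, Category.assoc, hx₀, reassoc_of% hd]; simp [p₁]
  have e2 : d ≫ y₀ = y := by rw [← cancel_mono jU, Category.assoc, hy₀, reassoc_of% hd]; simp [p₂]
  have e3 : d ≫ x₁ = x' := by rw [← cancel_mono jU, Category.assoc, hx₁, reassoc_of% hd]; simp [p₃]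
  have e4 : d ≫ y₁ = y' := by
    rw [← cancel_mono jU, Category.assoc, hy₁, reassoc_of% hd]
    simp only [p₄, p₁, p₂, p₃, MonObj.comp_mul, GrpObj.comp_inv, lift_fst, lift_snd_assoc, lift_snd]
    rw [← h, inv_mul_cancel_left]
  have := congrArg (fun k => d ≫ k) key
  simp only [MonObj.comp_mul] at this
  rwa [reassoc_of% e1, reassoc_of% e2, reassoc_of% e3, reassoc_of% e4] at this

/-- Every point of `G` is fppf locally a product of two points of `U`. -/
theorem mul_fppf [Flat G.hom] [LocallyOfFinitePresentation G.hom] (hU : UDense G U) :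
    Flat (incl ((fst G G).left ⁻¹ᵁ U ⊓ (snd G G).left ⁻¹ᵁ U) ≫ μ[G]).left ∧
    LocallyOfFinitePresentation (incl ((fst G G).left ⁻¹ᵁ U ⊓ (snd G G).left ⁻¹ᵁ U) ≫ μ[G]).left ∧
    Surjective (incl ((fst G G).left ⁻¹ᵁ U ⊓ (snd G G).left ⁻¹ᵁ U) ≫ μ[G]).left := by
  let ψ : G ⊗ G ≅ G ⊗ G :=
    { hom := lift μ[G] (snd G G)
      inv := lift (fst G G * (snd G G)⁻¹) (snd G G)
      hom_inv_id := by
        apply CartesianMonoidalCategory.hom_ext
        · simp [MonObj.comp_mul, GrpObj.comp_inv, MonObj.mul_eq_mul]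
        · simp
      inv_hom_id := by
        apply CartesianMonoidalCategory.hom_ext
        · simp [MonObj.comp_mul, MonObj.mul_eq_mul]
        · simp }
  have hμ : μ[G].left = ψ.hom.left ≫ (fst G G).left := by
    rw [← Over.comp_left]; simp [ψ]
  haveI : IsIso ψ.hom.left := ((Over.forget S).mapIso ψ).isIso_hom
  haveI hf1 : Flat (fst G G).left := inferInstanceAs (Flat (pullback.fst G.hom G.hom))
  haveI hf2 : LocallyOfFinitePresentation (fst G G).left :=
    inferInstanceAs (LocallyOfFinitePresentation (pullback.fst G.hom G.hom))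
  set O := (fst G G).left ⁻¹ᵁ U ⊓ (snd G G).left ⁻¹ᵁ U with hO
  rw [Over.comp_left, hμ]
  haveI : IsOpenImmersion (incl O).left := inferInstanceAs (IsOpenImmersion O.ι)
  refine ⟨inferInstance, inferInstance, ⟨fun g => ?_⟩⟩
  -- the fibre of multiplication over `g`
  let gp := G.left.fromSpecResidueField g
  let K' : Over S := Over.mk (gp ≫ G.hom)
  let γ : K' ⟶ G := Over.homMk gp rfl
  let α : G ⊗ K' ≅ G ⊗ K' :=
    { hom := lift ((fst G K')⁻¹ * (snd G K' ≫ γ)) (snd G K')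
      inv := lift ((snd G K' ≫ γ) * (fst G K')⁻¹) (snd G K')
      hom_inv_id := by
        apply CartesianMonoidalCategory.hom_ext
        · simp [MonObj.comp_mul, GrpObj.comp_inv]
        · simp
      inv_hom_id := by
        apply CartesianMonoidalCategory.hom_ext
        · simp [MonObj.comp_mul, GrpObj.comp_inv]
        · simp }
  haveI : IsIso α.hom.left := ((Over.forget S).mapIso α).isIso_hom
  have hd : CInt.IsSchematicallyDense ((fst G K').left ⁻¹ᵁ U) := hU _ K'.hom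
  have hd' : CInt.IsSchematicallyDense (α.hom.left ⁻¹ᵁ ((fst G K').left ⁻¹ᵁ U)) := preimage_dense _ hd
  obtain ⟨p₀⟩ : Nonempty ↥(Spec (G.left.residueField g)) := inferInstance
  obtain ⟨w₁, -, hw₁⟩ := exists_mem hd ⊤ (x := (lift (1 : K' ⟶ G) (𝟙 K')).left p₀)
    (TopologicalSpace.Opens.mem_top _)
  obtain ⟨w, hw, hw'⟩ := exists_mem hd' ((fst G K').left ⁻¹ᵁ U) hw₁
  let P := lift (fst G K') ((fst G K')⁻¹ * (snd G K' ≫ γ))
  have h1 : P.left w ∈ O := by
    refine ⟨?_, ?_⟩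
    · change (fst G G).left (P.left w) ∈ U
      rw [← Scheme.Hom.comp_apply, ← Over.comp_left, lift_fst]
      exact hw
    · change (snd G G).left (P.left w) ∈ U
      rw [← Scheme.Hom.comp_apply, ← Over.comp_left, lift_snd]
      have : α.hom.left ≫ (fst G K').left = ((fst G K')⁻¹ * (snd G K' ≫ γ)).left := by
        rw [← Over.comp_left]; simp [α]
      rw [← this, Scheme.Hom.comp_apply]
      exact hw'
  refine ⟨⟨P.left w, h1⟩, ?_⟩
  change (ψ.hom.left ≫ (fst G G).left) (P.left w) = g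
  rw [← hμ, ← Scheme.Hom.comp_apply, ← Over.comp_left, ← Hom.mul_def, mul_inv_cancel_left,
    Over.comp_left, Scheme.Hom.comp_apply]
  exact Scheme.fromSpecResidueField_apply _ _

/-- Extension to a homomorphism. -/
theorem existsUnique_extension [Flat G.hom] [LocallyOfFinitePresentation G.hom] (hU : UDense G U)
    (hjU : jU.left = U.ι) (V : (G ⊗ G).left.Opens) (hV : UDense (G ⊗ G) V)
    (hV1 : V ≤ (fst G G).left ⁻¹ᵁ U) (hV2 : V ≤ (snd G G).left ⁻¹ᵁ U) (hVm : V ≤ μ[G].left ⁻¹ᵁ U)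
    (hmul : ∀ (X : Over S) (a b : X ⟶ opn U),
      Set.range (lift (a ≫ jU) (b ≫ jU)).left.base ⊆ (V : Set ↥(G ⊗ G).left) →
      ∃ c : X ⟶ opn U, c ≫ jU = (a ≫ jU) * (b ≫ jU) ∧ c ≫ fbar = (a ≫ fbar) * (b ≫ fbar)) :
    ∃! f : G ⟶ H, IsMonHom f ∧ jU ≫ f = fbar := by
  have hΩ := fun {X : Over S} (a b c : X ⟶ opn U) =>
    mul_of_mul_on_dense jU fbar V hV hjU hmul a b c
  set O := (fst G G).left ⁻¹ᵁ U ⊓ (snd G G).left ⁻¹ᵁ U
  let m : opn O ⟶ G := incl O ≫ μ[G]
  obtain ⟨hm1, hm2, hm3⟩ := mul_fppf (U := U) hU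
  change Flat m.left at hm1
  change LocallyOfFinitePresentation m.left at hm2
  change Surjective m.left at hm3
  obtain ⟨a₀, ha₀⟩ := exists_lift_opn jU hjU (incl O ≫ fst G G) fun y => y.2.1
  obtain ⟨b₀, hb₀⟩ := exists_lift_opn jU hjU (incl O ≫ snd G G) fun y => y.2.2
  have hm : m = (a₀ ≫ jU) * (b₀ ≫ jU) := by
    rw [ha₀, hb₀, ← MonObj.comp_mul, ← MonObj.mul_eq_mul]
  let φ : opn O ⟶ H := (a₀ ≫ fbar) * (b₀ ≫ fbar)
  have hcompat : ∀ {Z : Scheme.{u}} (g₁ g₂ : Z ⟶ (opn O).left), g₁ ≫ m.left = g₂ ≫ m.left →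
      g₁ ≫ φ.left = g₂ ≫ φ.left := by
    intro Z g₁ g₂ e
    let d₁ : Over.mk (g₁ ≫ (opn O).hom) ⟶ opn O := Over.homMk g₁ rfl
    let d₂ : Over.mk (g₁ ≫ (opn O).hom) ⟶ opn O := Over.homMk g₂ (by
      change g₂ ≫ (opn O).hom = g₁ ≫ (opn O).hom
      rw [← Over.w m, reassoc_of% e])
    have e' : d₁ ≫ m = d₂ ≫ m := Over.OverMorphism.ext e
    have h := factor_indep jU fbar hU hjU hΩ (d₂ ≫ a₀) (d₂ ≫ b₀) (d₁ ≫ a₀) (d₁ ≫ b₀) (by
      simp only [hm, MonObj.comp_mul] at e'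
      simpa only [Category.assoc] using e')
    have h' : d₁ ≫ φ = d₂ ≫ φ := by simpa only [φ, MonObj.comp_mul, Category.assoc] using h
    exact congrArg CommaMorphism.left h'
  have : EffectiveEpi m.left := inferInstance
  let fl : G.left ⟶ H.left := EffectiveEpi.desc m.left φ.left hcompat
  have hfl : m.left ≫ fl = φ.left := EffectiveEpi.fac _ _ _
  have : Epi m := (Over.forget S).epi_of_epi_map (inferInstanceAs (Epi m.left))
  let f : G ⟶ H := Over.homMk fl (by rw [← cancel_epi m.left, reassoc_of% hfl, Over.w, Over.w])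
  have hf : m ≫ f = φ := Over.OverMorphism.ext hfl
  -- the values on products
  have hprod : ∀ {X : Over S} (x y : X ⟶ opn U),
      ((x ≫ jU) * (y ≫ jU)) ≫ f = (x ≫ fbar) * (y ≫ fbar) := by
    intro X x y
    obtain ⟨d, hd⟩ := exists_lift_opn (incl O) rfl (lift (x ≫ jU) (y ≫ jU)) fun q => by
      refine ⟨?_, ?_⟩
      · change (fst G G).left ((lift (x ≫ jU) (y ≫ jU)).left q) ∈ U
        rw [← Scheme.Hom.comp_apply, ← Over.comp_left, lift_fst]
        exact mem_of_lift jU hjU x q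
      · change (snd G G).left ((lift (x ≫ jU) (y ≫ jU)).left q) ∈ U
        rw [← Scheme.Hom.comp_apply, ← Over.comp_left, lift_snd]
        exact mem_of_lift jU hjU y q
    have : Mono jU := (Over.forget S).mono_of_mono_map (show Mono jU.left by rw [hjU]; infer_instance)
    have e1 : d ≫ a₀ = x := by rw [← cancel_mono jU, Category.assoc, ha₀, reassoc_of% hd, lift_fst]
    have e2 : d ≫ b₀ = y := by rw [← cancel_mono jU, Category.assoc, hb₀, reassoc_of% hd, lift_snd]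
    rw [← e1, ← e2, Category.assoc, Category.assoc, ← MonObj.comp_mul, ← hm, Category.assoc, hf]
    simp only [φ, MonObj.comp_mul, Category.assoc]
  have hext : jU ≫ f = fbar := by
    let p := pullback.snd m jU
    have hb := (IsPullback.of_hasPullback m jU).map (Over.forget S)
    have : Flat p.left := MorphismProperty.of_isPullback hb hm1
    have : LocallyOfFinitePresentation p.left := MorphismProperty.of_isPullback hb hm2
    have : Surjective p.left := MorphismProperty.of_isPullback hb hm3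
    have : EffectiveEpi p.left := inferInstance
    have : Epi p := (Over.forget S).epi_of_epi_map (inferInstanceAs (Epi p.left))
    rw [← cancel_epi p, ← Category.assoc, ← pullback.condition, Category.assoc, hf]
    have hc : p ≫ jU = ((pullback.fst m jU ≫ a₀) ≫ jU) * ((pullback.fst m jU ≫ b₀) ≫ jU) := by
      rw [← pullback.condition, Category.assoc, Category.assoc, ← MonObj.comp_mul, ← hm]
    have := hΩ (pullback.fst m jU ≫ a₀) (pullback.fst m jU ≫ b₀) p (by
      exact hc)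
    rw [this]
    simp only [φ, MonObj.comp_mul, Category.assoc]
  have hμ : μ[G] ≫ f = (fst G G ≫ f) * (snd G G ≫ f) := by
    refine ext_of_udense hV ?_
    obtain ⟨a, ha⟩ := exists_lift_opn jU hjU (incl V ≫ fst G G) fun y => hV1 y.2
    obtain ⟨b, hb⟩ := exists_lift_opn jU hjU (incl V ≫ snd G G) fun y => hV2 y.2
    have h3 : incl V ≫ (μ[G] ≫ f) = incl V ≫ ((fst G G ≫ f) * (snd G G ≫ f)) := by
      rw [MonObj.comp_mul, ← Category.assoc _ (fst G G), ← Category.assoc _ (snd G G), ← ha, ← hb,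
        Category.assoc a, Category.assoc b, hext, ← hprod, ha, hb, ← MonObj.comp_mul,
        ← MonObj.mul_eq_mul, Category.assoc]
    exact congrArg CommaMorphism.left h3
  have hmul' : ∀ {X : Over S} (a b : X ⟶ G), (a * b) ≫ f = (a ≫ f) * (b ≫ f) := fun a b => by
    rw [Hom.mul_def, Category.assoc, hμ, MonObj.comp_mul, lift_fst_assoc, lift_snd_assoc]
  have hone : (1 : 𝟙_ (Over S) ⟶ G) ≫ f = 1 := by
    have := hmul' (1 : 𝟙_ (Over S) ⟶ G) 1
    rwa [_root_.one_mul, left_eq_mul] at this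
  refine ⟨f, ⟨{ one_hom := ?_, mul_hom := ?_ }, hext⟩, ?_⟩
  · simpa [Hom.one_def] using hone
  · rw [hμ, Hom.mul_def]
    congr 1
  · rintro f' ⟨_, hf'⟩
    rw [← cancel_epi m, hf, hm, MonObj.mul_comp, Category.assoc, Category.assoc, hf']

end Groth.Agent.WeilExt
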