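import Mathlib

/-!
A rational function on a factorial local ring without poles on the codimension one points of a quotient.
-/

set_option autoImplicit false
universe u

namespace Groth.Agent.WeilExt

variable {A B : Type u} [CommRing A] [IsDomain A] [UniqueFactorizationMonoid A] [CommRing B] [IsNoetherianRing B]
  [IsLocalRing A] [Nontrivial B]

/-- If `x` in the fraction field of a factorial local ring `A` is defined at the primes of height at most one
of a quotient `B`, then it lies in `A`. -/
theorem mem_range_of_codim_one (π : A →+* B) (hπ : Function.Surjective π) {K : Type u} [Field K] [Algebra A K]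
    [IsFractionRing A K] (x : K)
    (h : ∀ q : Ideal B, q.IsPrime → q.height ≤ 1 → ∃ a s : A, π s ∉ q ∧ algebraMap A K s * x = algebraMap A K a) :
    ∃ a : A, algebraMap A K a = x := by
  obtain ⟨num, den, hrel, hx⟩ := IsFractionRing.exists_reduced_fraction (A := A) x
  by_cases hden : IsUnit (den : A)
  · refine ⟨num * ↑hden.unit⁻¹, ?_⟩
    rw [← hx, IsLocalization.eq_mk'_iff_mul_eq, ← map_mul, mul_assoc, IsUnit.val_inv_mul, mul_one]
  obtain ⟨p, hp, hpd⟩ := WfDvdMonoid.exists_irreducible_factor hden (nonZeroDivisors.coe_ne_zero den)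
  have hp' : Prime p := hp.prime
  have hne : Ideal.span {π p} ≠ ⊤ := by
    rw [ne_eq, Ideal.span_singleton_eq_top]
    intro hu
    obtain ⟨c, hc⟩ := hu.exists_left_inv
    obtain ⟨c', rfl⟩ := hπ c
    have h1 : π (1 - c' * p) = 0 := by rw [map_sub, map_one, map_mul, hc, sub_self]
    have h2 : IsUnit (1 - c' * p) := IsLocalRing.isUnit_one_sub_self_of_mem_nonunits _
      (fun hu' => hp.not_isUnit (isUnit_of_mul_isUnit_right hu'))
    exact not_isUnit_zero (h1 ▸ h2.map π)
  obtain ⟨q, hq⟩ := (Ideal.span {π p}).nonempty_minimalPrimes hne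
  haveI : q.IsPrime := hq.1.1
  haveI : (Ideal.span {π p}).IsPrincipal := ⟨π p, rfl⟩
  obtain ⟨a, s, hs, has⟩ := h q hq.1.1 (Ideal.height_le_one_of_isPrincipal_of_mem_minimalPrimes _ _ hq)
  refine absurd ?_ hs
  have hkey : s * num = a * den := by
    apply IsFractionRing.injective A K
    rw [map_mul, map_mul, ← has, ← hx, mul_assoc, IsLocalization.mk'_spec]
  have hps : p ∣ s * num := hkey ▸ hpd.trans (dvd_mul_left _ _)
  rcases hp'.dvd_or_dvd hps with hps | hpn
  · obtain ⟨t, rfl⟩ := hps
    rw [map_mul]
    exact q.mul_mem_right _ (hq.1.2 (Ideal.mem_span_singleton_self _))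
  · exact absurd (hrel hpn hpd) hp.not_isUnit

end Groth.Agent.WeilExt
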