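import Groth.Agent.S5434
import Groth.Agent.ClosedRep.Over
import Groth.Prelude.Def_CInt

/-!
# Opens schematically dense relative to the base
-/

set_option autoImplicit false
set_option backward.isDefEq.respectTransparency false
set_option backward.isDefEq.respectTransparency.types false

universe u

open CategoryTheory CategoryTheory.Limits AlgebraicGeometry MonoidalCategory CartesianMonoidalCategory
  SemiCartesianMonoidalCategory MonObj GrpObj

namespace Groth.Agent.WeilExt

/-- Schematically dense opens restrict along open immersions. -/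
theorem preimage_dense {W X : Scheme.{u}} (j : W ⟶ X) [IsOpenImmersion j] {U : X.Opens}
    (hU : CInt.IsSchematicallyDense U) : CInt.IsSchematicallyDense (j ⁻¹ᵁ U) := by
  intro V a b hab
  apply ((ConcreteCategory.isIso_iff_bijective (j.appIso V).inv).1 inferInstance).1
  apply hU (j ''ᵁ V)
  have hle : (j ''ᵁ V) ⊓ U ≤ j ''ᵁ (V ⊓ j ⁻¹ᵁ U) := by
    rintro x ⟨⟨y, hy, rfl⟩, hx⟩
    exact ⟨y, ⟨hy, hx⟩, rfl⟩
  have hsplit : X.presheaf.map (homOfLE (inf_le_left : (j ''ᵁ V) ⊓ U ≤ j ''ᵁ V)).op =
      X.presheaf.map (j.opensFunctor.map (homOfLE (inf_le_left : V ⊓ j ⁻¹ᵁ U ≤ V))).op ≫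
        X.presheaf.map (homOfLE hle).op := by
    rw [← Functor.map_comp]
    rfl
  have hn : W.presheaf.map (homOfLE (inf_le_left : V ⊓ j ⁻¹ᵁ U ≤ V)).op ≫ (j.appIso (V ⊓ j ⁻¹ᵁ U)).inv =
      (j.appIso V).inv ≫ X.presheaf.map (j.opensFunctor.map (homOfLE (inf_le_left : V ⊓ j ⁻¹ᵁ U ≤ V))).op :=
    Scheme.Hom.appIso_inv_naturality _ _
  have h := ConcreteCategory.congr_hom hn a
  have h' := ConcreteCategory.congr_hom hn b
  simp only [CommRingCat.comp_apply] at h h'
  rw [hsplit, CommRingCat.comp_apply, CommRingCat.comp_apply, ← h, ← h', hab]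

/-- A schematically dense open of a nonempty open meets it. -/
theorem exists_mem {X : Scheme.{u}} {U : X.Opens} (hU : CInt.IsSchematicallyDense U) (O : X.Opens)
    {x : X} (hx : x ∈ O) : ∃ y, y ∈ O ∧ y ∈ U := by
  by_contra h
  push_neg at h
  have e : O ⊓ U = ⊥ := TopologicalSpace.Opens.ext (Set.eq_empty_of_forall_notMem fun y hy => h y hy.1 hy.2)
  have : Subsingleton Γ(X, O ⊓ U) := by rw [e]; infer_instance
  have : Subsingleton Γ(X, O) := (hU O).subsingleton
  exact one_ne_zero (α := X.presheaf.stalk x)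
    ((map_one (X.presheaf.germ O x hx).hom).symm.trans
      ((congrArg _ (Subsingleton.elim 1 0)).trans (map_zero _)))

variable {S : Scheme.{u}}

/-- Schematically dense relative to `S`. -/
def UDense (X : Over S) (U : X.left.Opens) : Prop :=
  ∀ (S' : Scheme.{u}) (g : S' ⟶ S), CInt.IsSchematicallyDense ((pullback.fst X.hom g) ⁻¹ᵁ U)

theorem UDense.preimage {W X : Over S} (j : W ⟶ X) [IsOpenImmersion j.left] {U : X.left.Opens}
    (hU : UDense X U) : UDense W (j.left ⁻¹ᵁ U) := by
  intro S' g
  let j' : pullback W.hom g ⟶ pullback X.hom g :=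
    pullback.map _ _ _ _ j.left (𝟙 _) (𝟙 _) (by simp [Over.w j]) (by simp)
  have hj : IsOpenImmersion j' := by
    have h := (IsPullback.of_hasPullback X.hom g)
    have hb : IsPullback (pullback.fst W.hom g) j' j.left (pullback.fst X.hom g) := by
      refine IsPullback.of_bot ?_ (pullback.lift_fst _ _ _).symm h.flip.flip
      have e1 : j.left ≫ X.hom = W.hom := Over.w j
      have e2 : j' ≫ pullback.snd X.hom g = pullback.snd W.hom g := by simp [j']
      rw [e1, e2]
      exact IsPullback.of_hasPullback W.hom g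
    exact MorphismProperty.of_isPullback hb ‹IsOpenImmersion j.left›
  have e : pullback.fst W.hom g ⁻¹ᵁ (j.left ⁻¹ᵁ U) = j' ⁻¹ᵁ (pullback.fst X.hom g ⁻¹ᵁ U) := by
    rw [← Scheme.Hom.comp_preimage, ← Scheme.Hom.comp_preimage, pullback.lift_fst]
  rw [e]
  exact preimage_dense j' (hU S' g)

theorem UDense.fst (X Y : Over S) {U : X.left.Opens} (hU : UDense X U) :
    UDense (X ⊗ Y) ((CartesianMonoidalCategory.fst X Y).left ⁻¹ᵁ U) := by
  intro S' g
  let q := pullback.lift (pullback.fst (X ⊗ Y).hom g ≫ (CartesianMonoidalCategory.fst X Y).left)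
    (pullback.lift (pullback.fst (X ⊗ Y).hom g ≫ (CartesianMonoidalCategory.snd X Y).left)
      (pullback.snd (X ⊗ Y).hom g)
      (by rw [Category.assoc, Over.w, pullback.condition]))
    (f := X.hom) (g := pullback.snd Y.hom g ≫ g)
    (by rw [Category.assoc, Over.w, pullback.lift_snd_assoc, pullback.condition])
  let r : pullback X.hom (pullback.snd Y.hom g ≫ g) ⟶ pullback (X ⊗ Y).hom g :=
    pullback.lift (pullback.lift (pullback.fst _ _) (pullback.snd _ _ ≫ pullback.fst Y.hom g)
        (by rw [pullback.condition, Category.assoc, pullback.condition]))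
      (pullback.snd _ _ ≫ pullback.snd Y.hom g)
      (by
        rw [Over.tensorObj_hom]
        erw [pullback.lift_fst_assoc]
        rw [pullback.condition, Category.assoc])
  have hq : IsIso q := by
    refine ⟨r, ?_, ?_⟩
    · apply pullback.hom_ext
      · apply pullback.hom_ext <;> simp [q, r]
      · simp [q, r]
    · apply pullback.hom_ext
      · simp [q, r]
      · apply pullback.hom_ext <;> simp [q, r]
  have e : pullback.fst (X ⊗ Y).hom g ⁻¹ᵁ ((CartesianMonoidalCategory.fst X Y).left ⁻¹ᵁ U) =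
      q ⁻¹ᵁ (pullback.fst X.hom _ ⁻¹ᵁ U) := by
    rw [← Scheme.Hom.comp_preimage, ← Scheme.Hom.comp_preimage, pullback.lift_fst]
  rw [e]
  exact preimage_dense q (hU _ _)

/-- Morphisms to a group scheme agreeing on a relatively dense open are equal. -/
theorem ext_of_udense {X H : Over S} [GrpObj H] {U : X.left.Opens} (hU : UDense X U) {f g : X ⟶ H}
    (h : U.ι ≫ f.left = U.ι ≫ g.left) : f = g :=
  S5434.result S X H U hU (fun s =>
    letI : GrpObj ((Over.pullback (S.fromSpecResidueField s)).obj H) :=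
      Functor.grpObjObj (F := Over.pullback (S.fromSpecResidueField s))
    ClosedRep.isSeparated_of_field (S.residueField s) ((Over.pullback (S.fromSpecResidueField s)).obj H))
    f g h

end Groth.Agent.WeilExt
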